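import Groth.Agent.EtLimit.BaseChange
import Groth.Agent.EtMV.Base
import Groth.Agent.EtIntegral.BaseChange
import Mathlib

/-! Inverse images of free sheaves. -/

universe u

open CategoryTheory CategoryTheory.Limits AlgebraicGeometry Opposite

set_option backward.isDefEq.respectTransparency false
set_option backward.isDefEq.respectTransparency.types false

noncomputable section

namespace Groth.Agent.EtLimit

open EtMV (σ σ_comp σ_map σ_eq uel r r_natural)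

variable {W Y X : Scheme.{u}}

/-- the comparison on objects, typed with nested inverse images -/
def ψh (ι : W ⟶ Y) (f : Y ⟶ X) (k : W ⟶ X) (w : ι ≫ f = k) (G : EtCoh.Ab X) :
    (EtCoh.pull ι).obj ((EtCoh.pull f).obj G) ⟶ (EtCoh.pull k).obj G :=
  (EtMV.ψ ι f k w).hom.app G

theorem ψh_eq (ι : W ⟶ Y) (f : Y ⟶ X) (k : W ⟶ X) (w : ι ≫ f = k) (G : EtCoh.Ab X) :
    (EtMV.ψ ι f k w).hom.app G = ψh ι f k w G := rfl

theorem ψh_natural (ι : W ⟶ Y) (f : Y ⟶ X) (k : W ⟶ X) (w : ι ≫ f = k) {G G' : EtCoh.Ab X} (φ : G ⟶ G') :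
    (EtCoh.pull ι).map ((EtCoh.pull f).map φ) ≫ ψh ι f k w G' = ψh ι f k w G ≫ (EtCoh.pull k).map φ :=
  (EtMV.ψ ι f k w).hom.naturality φ

theorem r_map (f : Y ⟶ X) {o o₁ : X.Etale} {o' : Y.Etale} (δ : o' ⟶ (EtCoh.bc f).obj o₁) (g : o₁ ⟶ o)
    (G : EtCoh.Ab X) (s : EtCoh.sect G o) :
    r f δ G (G.obj.map g.op s) = r f (δ ≫ (EtCoh.bc f).map g) G s := by
  rw [r, r]
  erw [NatTrans.naturality_apply]
  let H := ((EtCoh.pull f).obj G).obj
  let z := ((EtCoh.pullPushAdj f).unit.app G).hom.app (op o) s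
  show H.map δ.op (H.map ((EtCoh.bc f).map g).op z) = H.map (δ ≫ (EtCoh.bc f).map g).op z
  rw [← ConcreteCategory.comp_apply, ← H.map_comp, ← op_comp]

theorem r_comp' (ι : W ⟶ Y) (f : Y ⟶ X) (k : W ⟶ X) (w : ι ≫ f = k) {o : X.Etale}
    {o' : Y.Etale} {o'' : W.Etale}
    (δ₁ : o' ⟶ (EtCoh.bc f).obj o) (δ₂ : o'' ⟶ (EtCoh.bc ι).obj o')
    (δ₃ : o'' ⟶ (EtCoh.bc k).obj o)
    (h : δ₂.left ≫ fstE ι o' ≫ δ₁.left ≫ fstE f o = δ₃.left ≫ fstE k o) (G : EtCoh.Ab X) (s : EtCoh.sect G o) :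
    ((EtMV.ψ ι f k w).hom.app G).hom.app (op o'') (r ι δ₂ _ (r f δ₁ G s)) = r k δ₃ G s := by
  subst w
  simp only [EtMV.ψ, EtCore.pullCongr, eqToIso_refl, Iso.trans_hom, Iso.refl_hom, Iso.symm_hom,
    Category.comp_id]
  let A := EtCoh.pullPushAdj (ι ≫ f)
  let B := ((EtCoh.pullPushAdj f).comp (EtCoh.pullPushAdj ι)).ofNatIsoRight (EtCoh.pushComp f ι)
  have hB : B.unit.app G ≫ (EtCoh.push (ι ≫ f)).map ((EtCore.pullComp ι f).inv.app G) = A.unit.app G := by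
    rw [EtCore.pullComp, ← Adjunction.unit_leftAdjointUniq_hom_app A B G, Category.assoc,
      ← Functor.map_comp, Iso.hom_inv_id_app]
    erw [CategoryTheory.Functor.map_id, Category.comp_id]
  have hB' : B.unit.app G = (EtCoh.pullPushAdj f).unit.app G ≫
      (EtCoh.push f).map ((EtCoh.pullPushAdj ι).unit.app _) ≫ (EtCoh.pushComp f ι).hom.app _ := by
    have h1 := Adjunction.homEquiv_ofNatIsoRight_apply
      ((EtCoh.pullPushAdj f).comp (EtCoh.pullPushAdj ι)) (EtCoh.pushComp f ι)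
      (𝟙 ((EtCoh.pull f ⋙ EtCoh.pull ι).obj G))
    rw [Adjunction.homEquiv_id, Adjunction.homEquiv_id] at h1
    rw [show B.unit.app G = _ from h1, Adjunction.comp_unit_app, Category.assoc]
    rfl
  conv_rhs => rw [r, show (EtCoh.pullPushAdj (ι ≫ f)).unit.app G = _ from hB.symm, hB']
  rw [r, r]
  erw [NatTrans.naturality_apply ((EtCoh.pullPushAdj ι).unit.app _).hom]
  let H := ((EtCoh.pull f ⋙ EtCoh.pull ι).obj G).obj
  let p := ((EtCore.pullComp ι f).inv.app G).hom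
  let z : H.obj (op ((EtCoh.bc ι).obj ((EtCoh.bc f).obj o))) :=
    ((EtCoh.pullPushAdj ι).unit.app _).hom.app (op ((EtCoh.bc f).obj o))
      (((EtCoh.pullPushAdj f).unit.app G).hom.app (op o) s)
  let c : (EtCoh.bc (ι ≫ f)).obj o ⟶ (EtCoh.bc ι).obj ((EtCoh.bc f).obj o) :=
    (MorphismProperty.Over.pullbackComp (P := EtCoh.etaleMP) (Q := ⊤) ι f).hom.app o
  show p.app _ (H.map δ₂.op (H.map ((EtCoh.bc ι).map δ₁).op z)) =
    ((EtCoh.pull (ι ≫ f)).obj G).obj.map δ₃.op (p.app _ (H.map c.op z))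
  rw [← NatTrans.naturality_apply p δ₃.op]
  congr 1
  have hc : δ₂ ≫ (EtCoh.bc ι).map δ₁ = δ₃ ≫ c := by
    have hcf : c.left ≫ fstE ι ((EtCoh.bc f).obj o) ≫ fstE f o = fstE (ι ≫ f) o :=
      EtIntegral.pullbackComp_left_fst ι f o
    refine bc_hom_ext ι _ _ ?_
    have e1 : (δ₂ ≫ (EtCoh.bc ι).map δ₁).left ≫ fstE ι ((EtCoh.bc f).obj o) = (δ₂.left ≫ fstE ι o') ≫ δ₁.left := by
      rw [MorphismProperty.Comma.comp_left, Category.assoc, bc_map_fst, Category.assoc]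
    rw [e1]
    refine pullback.hom_ext (f := o.hom) (g := f) ?_ ?_
    · show ((δ₂.left ≫ fstE ι o') ≫ δ₁.left) ≫ fstE f o = ((δ₃ ≫ c).left ≫ fstE ι _) ≫ fstE f o
      rw [MorphismProperty.Comma.comp_left, Category.assoc, Category.assoc, h, Category.assoc, Category.assoc, hcf]
    · show ((δ₂.left ≫ fstE ι o') ≫ δ₁.left) ≫ pullback.snd o.hom f =
        ((δ₃ ≫ c).left ≫ fstE ι _) ≫ pullback.snd o.hom f
      rw [Category.assoc, left_snd, Category.assoc, Category.assoc]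
      erw [pullback.condition, pullback.condition, ← Category.assoc δ₂.left, left_snd, ← Category.assoc (δ₃ ≫ c).left,
        left_snd]
  rw [← ConcreteCategory.comp_apply, ← ConcreteCategory.comp_apply, ← H.map_comp, ← H.map_comp,
    ← op_comp, ← op_comp, hc]

/-- the map of free sheaves attached to a map over the base -/
def π (f : Y ⟶ X) (o : X.Etale) (o' : Y.Etale) (m : o'.left ⟶ o.left) (w : m ≫ o.hom = o'.hom ≫ f) :
    (EtMV.P Y).obj o' ⟶ (EtCoh.pull f).obj ((EtMV.P X).obj o) :=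
  σ.symm (r f (hm f o o' m w) _ (uel o))

theorem σ_π (f : Y ⟶ X) (o : X.Etale) (o' : Y.Etale) (m : o'.left ⟶ o.left) (w : m ≫ o.hom = o'.hom ≫ f) :
    σ (π f o o' m w) = r f (hm f o o' m w) _ (uel o) :=
  Equiv.apply_symm_apply _ _

theorem π_pre (f : Y ⟶ X) (o : X.Etale) {o' o'' : Y.Etale} (g : o'' ⟶ o') (m : o'.left ⟶ o.left)
    (w : m ≫ o.hom = o'.hom ≫ f) (w' : (g.left ≫ m) ≫ o.hom = o''.hom ≫ f) :
    (EtMV.P Y).map g ≫ π f o o' m w = π f o o'' (g.left ≫ m) w' := by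
  apply σ.injective
  rw [σ_map, σ_π, σ_π]
  have e : g ≫ hm f o o' m w = hm f o o'' (g.left ≫ m) w' := bc_hom_ext f _ _ (by
    rw [MorphismProperty.Comma.comp_left, Category.assoc, hm_fst, hm_fst])
  rw [← e, r, r]
  let H := ((EtCoh.pull f).obj ((EtMV.P X).obj o)).obj
  let z := ((EtCoh.pullPushAdj f).unit.app ((EtMV.P X).obj o)).hom.app (op o) (uel o)
  show H.map g.op (H.map (hm f o o' m w).op z) = H.map (g ≫ hm f o o' m w).op z
  rw [← ConcreteCategory.comp_apply, ← H.map_comp, ← op_comp]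

theorem π_post (f : Y ⟶ X) {o o₁ : X.Etale} (h : o₁ ⟶ o) (o' : Y.Etale) (m : o'.left ⟶ o₁.left)
    (w : m ≫ o₁.hom = o'.hom ≫ f) (w' : (m ≫ h.left) ≫ o.hom = o'.hom ≫ f) :
    π f o₁ o' m w ≫ (EtCoh.pull f).map ((EtMV.P X).map h) = π f o o' (m ≫ h.left) w' := by
  apply σ.injective
  rw [σ_comp, σ_π, σ_π, r_natural, ← σ_eq]
  have e1 : σ ((EtMV.P X).map h) = ((EtMV.P X).obj o).obj.map h.op (uel o) := by
    rw [← Category.comp_id ((EtMV.P X).map h), σ_map]; rfl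
  rw [e1, r_map]
  congr 1
  refine bc_hom_ext f _ _ ?_
  rw [MorphismProperty.Comma.comp_left, Category.assoc, bc_map_fst, ← Category.assoc, hm_fst, hm_fst]

theorem π_comp (ι : W ⟶ Y) (f : Y ⟶ X) (k : W ⟶ X) (w : ι ≫ f = k) (o : X.Etale) (o' : Y.Etale) (o'' : W.Etale)
    (m₁ : o'.left ⟶ o.left) (w₁ : m₁ ≫ o.hom = o'.hom ≫ f) (m₂ : o''.left ⟶ o'.left)
    (w₂ : m₂ ≫ o'.hom = o''.hom ≫ ι) (w₃ : (m₂ ≫ m₁) ≫ o.hom = o''.hom ≫ k) :
    π ι o' o'' m₂ w₂ ≫ (EtCoh.pull ι).map (π f o o' m₁ w₁) ≫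
        (EtMV.ψ ι f k w).hom.app ((EtMV.P X).obj o) = π k o o'' (m₂ ≫ m₁) w₃ := by
  apply σ.injective
  rw [← Category.assoc, σ_comp, σ_comp, σ_π, r_natural, ← σ_eq, σ_π, σ_π]
  refine r_comp' ι f k w _ _ _ ?_ _ _
  rw [hm_fst, ← Category.assoc, hm_fst, hm_fst]

theorem π_comp_map (ι : W ⟶ Y) (f : Y ⟶ X) (k : W ⟶ X) (w : ι ≫ f = k) (o : X.Etale) (o' : Y.Etale) (o'' : W.Etale)
    (m₁ : o'.left ⟶ o.left) (w₁ : m₁ ≫ o.hom = o'.hom ≫ f) (m₂ : o''.left ⟶ o'.left)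
    (w₂ : m₂ ≫ o'.hom = o''.hom ≫ ι) (w₃ : (m₂ ≫ m₁) ≫ o.hom = o''.hom ≫ k) {A : EtCoh.Ab X}
    (e : (EtMV.P X).obj o ⟶ A) :
    π ι o' o'' m₂ w₂ ≫ (EtCoh.pull ι).map (π f o o' m₁ w₁ ≫ (EtCoh.pull f).map e) ≫ (EtMV.ψ ι f k w).hom.app A =
      π k o o'' (m₂ ≫ m₁) w₃ ≫ (EtCoh.pull k).map e := by
  have h1 : (EtCoh.pull ι).map ((EtCoh.pull f).map e) ≫ (EtMV.ψ ι f k w).hom.app A =
      (EtMV.ψ ι f k w).hom.app ((EtMV.P X).obj o) ≫ (EtCoh.pull k).map e :=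
    (EtMV.ψ ι f k w).hom.naturality e
  rw [Functor.map_comp, Category.assoc, h1]
  exact ((Category.assoc _ _ _).trans (congrArg (π ι o' o'' m₂ w₂ ≫ ·) (Category.assoc _ _ _))).symm.trans
    (congrArg (· ≫ (EtCoh.pull k).map e) (π_comp ι f k w o o' o'' m₁ w₁ m₂ w₂ w₃))

theorem isIso_π (f : Y ⟶ X) (o : X.Etale) (o' : Y.Etale) (m : o'.left ⟶ o.left) (w : m ≫ o.hom = o'.hom ≫ f)
    [IsIso (hm f o o' m w)] : IsIso (π f o o' m w) := by
  have key : ∀ G : EtCoh.Ab Y, Function.Bijective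
      (fun φ : (EtCoh.pull f).obj ((EtMV.P X).obj o) ⟶ G => σ (π f o o' m w ≫ φ)) := by
    intro G
    have e : (fun φ : (EtCoh.pull f).obj ((EtMV.P X).obj o) ⟶ G => σ (π f o o' m w ≫ φ)) =
        (G.obj.map (hm f o o' m w).op) ∘ fun φ => σ (o := o) (G := (EtCoh.push f).obj G) ((EtCoh.pullPushAdj f).homEquiv _ _ φ) := by
      funext φ
      rw [Function.comp_apply]
      dsimp only
      rw [σ_comp, σ_π, Adjunction.homEquiv_unit]
      have h := (σ_comp ((EtCoh.pullPushAdj f).unit.app ((EtMV.P X).obj o)) ((EtCoh.push f).map φ)).trans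
        (congrArg (((EtCoh.push f).map φ).hom.app (op o)) (σ_eq ((EtCoh.pullPushAdj f).unit.app ((EtMV.P X).obj o))))
      refine Eq.trans ?_ (congrArg (G.obj.map (hm f o o' m w).op) h).symm
      exact NatTrans.naturality_apply φ.hom (hm f o o' m w).op _
    rw [e]
    exact (ConcreteCategory.bijective_of_isIso _).comp
      ((σ (G := (EtCoh.push f).obj G)).bijective.comp ((EtCoh.pullPushAdj f).homEquiv _ _).bijective)
  obtain ⟨i, hi⟩ := (key ((EtMV.P Y).obj o')).2 (uel o')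
  have h1 : π f o o' m w ≫ i = 𝟙 _ := σ.injective hi
  refine ⟨i, h1, (key _).1 ?_⟩
  show σ (π f o o' m w ≫ i ≫ π f o o' m w) = σ (π f o o' m w ≫ 𝟙 _)
  rw [reassoc_of% h1, Category.comp_id]

theorem hm_fstE (f : Y ⟶ X) (o : X.Etale) (w) : hm f o ((EtCoh.bc f).obj o) (fstE f o) w = 𝟙 _ :=
  bc_hom_ext f _ _ (by rw [hm_fst]; exact (Category.id_comp _).symm)

theorem isIso_π_fstE (f : Y ⟶ X) (o : X.Etale) (w) : IsIso (π f o ((EtCoh.bc f).obj o) (fstE f o) w) := by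
  haveI : IsIso (hm f o ((EtCoh.bc f).obj o) (fstE f o) w) := by rw [hm_fstE]; infer_instance
  exact isIso_π f o _ _ w

end Groth.Agent.EtLimit
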