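import Groth.Agent.EtLimit.Coherence
import Groth.Agent.EtPushStalk.Unit
import Groth.Agent.EtTensorStalk.Basic
import Mathlib

/-! Local description of sections of inverse images. -/

universe u

open CategoryTheory CategoryTheory.Limits AlgebraicGeometry Opposite

set_option backward.isDefEq.respectTransparency false
set_option backward.isDefEq.respectTransparency.types false

noncomputable section

namespace Groth.Agent.EtLimit

set_option linter.auxLemma false
attribute [local instance 100000] EtCoh.H._proof_1 Groth.Agent.EtMV.hext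
attribute [local instance 200000] Groth.Agent.EtMV.hextAb

open EtMV (r r_natural)
open EtTensorStalk (gm gm_map exists_common exists_pullGerm)

variable {Y X : Scheme.{u}} (f : Y ⟶ X) (G : EtCoh.Ab X)

theorem r_pre {o : X.Etale} {o' o'' : Y.Etale} (g : o'' ⟶ o') (δ : o' ⟶ (EtCoh.bc f).obj o) (s : EtCoh.sect G o) :
    ((EtCoh.pull f).obj G).obj.map g.op (r f δ G s) = r f (g ≫ δ) G s := by
  rw [r, r, ← ConcreteCategory.comp_apply, ← Functor.map_comp, ← op_comp]

/-- sections of an inverse image are locally pulled back -/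
theorem exists_r_local {T : Y.Etale} (ζ : EtCoh.sect ((EtCoh.pull f).obj G) T) (x : T.left) :
    ∃ (T' : Y.Etale) (g : T' ⟶ T) (O : X.Etale) (δ : T' ⟶ (EtCoh.bc f).obj O) (t : EtCoh.sect G O),
      x ∈ Set.range g.left ∧ ((EtCoh.pull f).obj G).obj.map g.op ζ = r f δ G t := by
  obtain ⟨Ω, _, _, η, -, hη⟩ := EtStalk.covers_all (X := T.left) x
  let ξ : Spec (CommRingCat.of Ω) ⟶ Y := η ≫ T.hom
  let v : Over.mk ξ ⟶ (Scheme.Etale.forget Y).obj T := Over.homMk η rfl
  obtain ⟨γ, hγ, hγm⟩ := exists_pullGerm ξ f (ξ ≫ f) rfl G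
  obtain ⟨b, hb⟩ := hγ.2 (gm ξ ((EtCoh.pull f).obj G).obj T v ζ)
  obtain ⟨V, w, t, rfl⟩ := (Scheme.pointSmallEtale (ξ ≫ f)).toPresheafFiber_jointly_surjective (P := G.obj) b
  have h := (hγm V w t).symm.trans hb
  obtain ⟨Z, z, a₁, a₂, h₁, h₂⟩ := exists_common ξ v
    (EtPushStalk.up f ξ (Over.homMk w.left (Over.w w) : Over.mk (ξ ≫ f) ⟶ (Scheme.Etale.forget X).obj V))
  rw [← h₁, ← gm_map] at h
  erw [← h₂, ← gm_map] at h
  obtain ⟨W, g, y, hy, heq⟩ := (GrothendieckTopology.Point.toPresheafFiber_eq_iff' _ _ _ _ _).mp h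
  refine ⟨W, g ≫ a₁, V, g ≫ a₂, t, ?_, ?_⟩
  · refine ⟨(y : Over.mk ξ ⟶ (Scheme.Etale.forget Y).obj W).left (default : Spec (CommRingCat.of Ω)), ?_⟩
    have h3 : (Scheme.pointSmallEtale ξ).fiber.map (g ≫ a₁) y = v := by
      rw [Functor.map_comp_apply, hy, h₁]
    rw [← hη]
    exact congr($(congrArg CommaMorphism.left h3) (default : Spec (CommRingCat.of Ω)))
  · rw [r, op_comp, Functor.map_comp, ConcreteCategory.comp_apply, op_comp, Functor.map_comp,
      ConcreteCategory.comp_apply]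
    exact heq.symm

/-- a pulled back section vanishing near a point is killed by a neighbourhood downstairs -/
theorem exists_kill_r {T : Y.Etale} {O : X.Etale} (δ : T ⟶ (EtCoh.bc f).obj O) (t : EtCoh.sect G O)
    (h : r f δ G t = 0) (x : T.left) :
    ∃ (O' : X.Etale) (g : O' ⟶ O), fstE f O (δ.left x) ∈ Set.range g.left ∧ G.obj.map g.op t = 0 := by
  have h1 := (EtSect.map_eq_zero_iff _ _ δ).1 h ⟨x, rfl⟩
  rw [Set.mem_compl_iff, EtPushStalk.mem_sectSupp_unit_iff] at h1
  exact (EtSect.mem_iff G t _).1 h1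

end Groth.Agent.EtLimit
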