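import Groth.Agent.EtLimit.Colim
import Groth.Agent.EtLimit.PullSect
import Mathlib

/-! Sections of systems of sheaves. -/

universe u

open CategoryTheory CategoryTheory.Limits CategoryTheory.Abelian AlgebraicGeometry Opposite

set_option backward.isDefEq.respectTransparency false
set_option backward.isDefEq.respectTransparency.types false

noncomputable section

namespace Groth.Agent.EtLimit

set_option linter.auxLemma false
attribute [local instance 100000] EtCoh.H._proof_1 Groth.Agent.EtMV.hext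
attribute [local instance 200000] Groth.Agent.EtMV.hextAb

open EtMV (r r_natural σ σ_comp σ_eq uel)

theorem r_add {Y X : Scheme.{u}} (f : Y ⟶ X) {o : X.Etale} {o' : Y.Etale} (δ : o' ⟶ (EtCoh.bc f).obj o)
    (G : EtCoh.Ab X) (s t : EtCoh.sect G o) : r f δ G (s + t) = r f δ G s + r f δ G t := by
  rw [r, r, r]
  erw [map_add, map_add]

theorem r_sub {Y X : Scheme.{u}} (f : Y ⟶ X) {o : X.Etale} {o' : Y.Etale} (δ : o' ⟶ (EtCoh.bc f).obj o)
    (G : EtCoh.Ab X) (s t : EtCoh.sect G o) : r f δ G (s - t) = r f δ G s - r f δ G t := by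
  rw [eq_sub_iff_add_eq, ← r_add, sub_add_cancel]

theorem r_zero {Y X : Scheme.{u}} (f : Y ⟶ X) {o : X.Etale} {o' : Y.Etale} (δ : o' ⟶ (EtCoh.bc f).obj o)
    (G : EtCoh.Ab X) : r f δ G (0 : EtCoh.sect G o) = 0 := by
  have := r_sub f δ G (0 : EtCoh.sect G o) 0
  rwa [sub_zero, sub_self] at this

variable {I : Type u} [SmallCategory I] {D : I ⥤ Scheme.{u}} {c : Cone D} (S : Datum D c)

/-- sections at a stage, seen on the limit -/
def Datum.vs (j : I) {W : (D.obj j).Etale} {T : c.pt.Etale} (δ : T ⟶ (EtCoh.bc (uπ c j)).obj W)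
    (s : EtCoh.sect (S.F j) W) : EtCoh.sect S.M T :=
  (S.ν j).hom.app (op T) (r (uπ c j) δ (S.F j) s)

/-- transition of sections -/
def Datum.ts {k j : I} (a : k ⟶ j) {W : (D.obj j).Etale} {Z : (D.obj k).Etale} (q : Z ⟶ (EtCoh.bc (D.map a)).obj W)
    (s : EtCoh.sect (S.F j) W) : EtCoh.sect (S.F k) Z :=
  (S.ψ a).hom.app (op Z) (r (D.map a) q (S.F j) s)

theorem vs_pre {j : I} {W : (D.obj j).Etale} {T T' : c.pt.Etale} (g : T' ⟶ T) (δ : T ⟶ (EtCoh.bc (uπ c j)).obj W)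
    (s : EtCoh.sect (S.F j) W) : S.M.obj.map g.op (S.vs j δ s) = S.vs j (g ≫ δ) s := by
  rw [Datum.vs, Datum.vs, ← r_pre]
  exact (NatTrans.naturality_apply (S.ν j).hom g.op _).symm

theorem ts_pre {k j : I} (a : k ⟶ j) {W : (D.obj j).Etale} {Z Z' : (D.obj k).Etale} (g : Z' ⟶ Z)
    (q : Z ⟶ (EtCoh.bc (D.map a)).obj W) (s : EtCoh.sect (S.F j) W) :
    (S.F k).obj.map g.op (S.ts a q s) = S.ts a (g ≫ q) s := by
  rw [Datum.ts, Datum.ts, ← r_pre]
  exact (NatTrans.naturality_apply (S.ψ a).hom g.op _).symm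

theorem vs_res {j : I} {W W' : (D.obj j).Etale} (g : W' ⟶ W) {T : c.pt.Etale}
    (δ : T ⟶ (EtCoh.bc (uπ c j)).obj W') (s : EtCoh.sect (S.F j) W) :
    S.vs j δ ((S.F j).obj.map g.op s) = S.vs j (δ ≫ (EtCoh.bc (uπ c j)).map g) s := by
  rw [Datum.vs, Datum.vs, r_map]

theorem ts_res {k j : I} (a : k ⟶ j) {W W' : (D.obj j).Etale} (g : W' ⟶ W) {Z : (D.obj k).Etale}
    (q : Z ⟶ (EtCoh.bc (D.map a)).obj W') (s : EtCoh.sect (S.F j) W) :
    S.ts a q ((S.F j).obj.map g.op s) = S.ts a (q ≫ (EtCoh.bc (D.map a)).map g) s := by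
  rw [Datum.ts, Datum.ts, r_map]

theorem vs_sub {j : I} {W : (D.obj j).Etale} {T : c.pt.Etale} (δ : T ⟶ (EtCoh.bc (uπ c j)).obj W)
    (s t : EtCoh.sect (S.F j) W) : S.vs j δ (s - t) = S.vs j δ s - S.vs j δ t := by
  rw [Datum.vs, Datum.vs, Datum.vs, r_sub]
  exact map_sub _ _ _

theorem ts_sub {k j : I} (a : k ⟶ j) {W : (D.obj j).Etale} {Z : (D.obj k).Etale}
    (q : Z ⟶ (EtCoh.bc (D.map a)).obj W) (s t : EtCoh.sect (S.F j) W) : S.ts a q (s - t) = S.ts a q s - S.ts a q t := by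
  rw [Datum.ts, Datum.ts, Datum.ts, r_sub]
  exact map_sub _ _ _

theorem vs_ts {k j : I} (a : k ⟶ j) {W : (D.obj j).Etale} {Z : (D.obj k).Etale}
    (q : Z ⟶ (EtCoh.bc (D.map a)).obj W) {T : c.pt.Etale} (δ : T ⟶ (EtCoh.bc (uπ c k)).obj Z)
    (δ' : T ⟶ (EtCoh.bc (uπ c j)).obj W)
    (h : δ.left ≫ fstE (uπ c k) Z ≫ q.left ≫ fstE (D.map a) W = δ'.left ≫ fstE (uπ c j) W)
    (s : EtCoh.sect (S.F j) W) : S.vs k δ (S.ts a q s) = S.vs j δ' s := by
  rw [Datum.vs, Datum.vs, Datum.ts, ← r_comp' (uπ c k) (D.map a) (uπ c j) (uπ_w c a) q δ δ' h, ← r_natural,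
    ← comp_app_apply, ψh_eq, S.compat a, comp_app_apply]
  rfl

theorem ts_ts (hψ : S.Cocycle) {l k j : I} (b : l ⟶ k) (a : k ⟶ j) {W : (D.obj j).Etale} {Z : (D.obj k).Etale}
    {Z' : (D.obj l).Etale} (q : Z ⟶ (EtCoh.bc (D.map a)).obj W) (q₂ : Z' ⟶ (EtCoh.bc (D.map b)).obj Z)
    (q₃ : Z' ⟶ (EtCoh.bc (D.map (b ≫ a))).obj W)
    (h : q₂.left ≫ fstE (D.map b) Z ≫ q.left ≫ fstE (D.map a) W = q₃.left ≫ fstE (D.map (b ≫ a)) W)
    (s : EtCoh.sect (S.F j) W) : S.ts b q₂ (S.ts a q s) = S.ts (b ≫ a) q₃ s := by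
  rw [Datum.ts, Datum.ts, Datum.ts, ← r_comp' (D.map b) (D.map a) (D.map (b ≫ a)) (D.map_comp b a).symm q q₂ q₃ h,
    ← r_natural, ← comp_app_apply, ψh_eq, hψ.eq b a, comp_app_apply]
  rfl

/-- local injectivity -/
structure Datum.GermI : Prop where
  kill : ∀ (j : I) (W : (D.obj j).Etale), EtColimH.Qcqs W → ∀ (s : EtCoh.sect (S.F j) W), S.vs j (𝟙 _) s = 0 → ∀ x,
    ∃ (k : I) (a : k ⟶ j) (Z : (D.obj k).Etale) (q : Z ⟶ (EtCoh.bc (D.map a)).obj W),
      EtColimH.Qcqs Z ∧ S.ts a q s = 0 ∧ Covers D c W a q x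

/-- local surjectivity -/
structure Datum.GermS : Prop where
  rep : ∀ (j : I) (W : (D.obj j).Etale), EtColimH.Qcqs W → ∀ (ζ : EtCoh.sect S.M ((EtCoh.bc (uπ c j)).obj W)) x,
    ∃ (k : I) (a : k ⟶ j) (Z : (D.obj k).Etale) (q : Z ⟶ (EtCoh.bc (D.map a)).obj W) (s : EtCoh.sect (S.F k) Z),
      EtColimH.Qcqs Z ∧ (∀ h : (EtCoh.bc (uπ c k)).obj Z ⟶ (EtCoh.bc (uπ c j)).obj W,
        h.left ≫ fstE (uπ c j) W = fstE (uπ c k) Z ≫ q.left ≫ fstE (D.map a) W →
          S.M.obj.map h.op ζ = S.vs k (𝟙 _) s) ∧ Covers D c W a q x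

/-- injectivity on sections -/
structure Datum.InjSect : Prop where
  eq : ∀ (j : I) (W : (D.obj j).Etale), EtColimH.Qcqs W → ∀ (s : EtCoh.sect (S.F j) W), S.vs j (𝟙 _) s = 0 →
    ∃ (k : I) (a : k ⟶ j), S.ts a (𝟙 ((EtCoh.bc (D.map a)).obj W)) s = 0

/-- surjectivity on sections, in two steps -/
structure Datum.SurjSect : Prop where
  eq : ∀ (j : I) (W : (D.obj j).Etale), EtColimH.Qcqs W → ∀ (ζ : EtCoh.sect S.M ((EtCoh.bc (uπ c j)).obj W)),
    ∃ (k : I) (a : k ⟶ j) (l : I) (b : l ⟶ k)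
      (t : EtCoh.sect (S.F l) ((EtCoh.bc (D.map b)).obj ((EtCoh.bc (D.map a)).obj W))),
      ∀ h : (EtCoh.bc (uπ c l)).obj ((EtCoh.bc (D.map b)).obj ((EtCoh.bc (D.map a)).obj W)) ⟶ (EtCoh.bc (uπ c j)).obj W,
        h.left ≫ fstE (uπ c j) W = fstE (uπ c l) _ ≫ fstE (D.map b) _ ≫ fstE (D.map a) W →
          S.M.obj.map h.op ζ = S.vs l (𝟙 _) t

variable {S}
variable [∀ {i j : I} (f : i ⟶ j), IsAffineHom (D.map f)] [∀ i, CompactSpace (D.obj i)]
  [∀ i, QuasiSeparatedSpace (D.obj i)] [IsCofiltered I] (hc : IsLimit c) (hψ : S.Cocycle)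

include hc hψ in
theorem injSect_of_germI (hI : S.GermI) : S.InjSect := ⟨fun j W hW s hs => by
  obtain ⟨k, a, ι, _, Z, q, -, hq, hcov⟩ := exists_finite_stage D c hc W hW
    (fun k a Z q => S.ts a q s = 0)
    (fun k l a b Z q q' hq' h0 => by
      have e : S.ts (b ≫ a) q' s = S.ts b (𝟙 _) (S.ts a q s) :=
        (ts_ts S hψ b a q (𝟙 _) q' ((id_left_comp _).trans hq'.symm) s).symm
      dsimp only
      rw [e, h0, Datum.ts, r_zero]
      exact map_zero _)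
    (fun x => by
      obtain ⟨k, a, Z, q, hZ, h0, hx⟩ := hI.kill j W hW s hs x
      exact ⟨k, a, Z, q, hZ, h0, hx⟩)
  refine ⟨k, a, EtSect.eq_zero_of_cover (S.F k) _ fun w => ?_⟩
  obtain ⟨t, ht⟩ := hcov w
  exact ⟨Z t, q t, ht, by rw [ts_pre, Category.comp_id]; exact hq t⟩⟩

omit [∀ {i j : I} (f : i ⟶ j), IsAffineHom (D.map f)] [∀ i, CompactSpace (D.obj i)]
  [∀ i, QuasiSeparatedSpace (D.obj i)] [IsCofiltered I] in
theorem w_step {k j : I} (a : k ⟶ j) {W : (D.obj j).Etale} {Z : (D.obj k).Etale}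
    (q : Z ⟶ (EtCoh.bc (D.map a)).obj W) :
    (fstE (uπ c k) Z ≫ q.left ≫ fstE (D.map a) W) ≫ W.hom = ((EtCoh.bc (uπ c k)).obj Z).hom ≫ uπ c j := by
  rw [Category.assoc, Category.assoc, pullback.condition, ← Category.assoc q.left, left_snd, ← Category.assoc,
    pullback.condition, Category.assoc, uπ_w c a]
  rfl

omit [∀ {i j : I} (f : i ⟶ j), IsAffineHom (D.map f)] [∀ i, CompactSpace (D.obj i)]
  [∀ i, QuasiSeparatedSpace (D.obj i)] [IsCofiltered I] in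
theorem bc_cover {Y X : Scheme.{u}} (f : Y ⟶ X) {W : X.Etale} {ι : Type*} {Z : ι → X.Etale} (q : ∀ t, Z t ⟶ W)
    (hq : ∀ w : W.left, ∃ t, w ∈ Set.range (q t).left) (v : ((EtCoh.bc f).obj W).left) :
    ∃ t, v ∈ Set.range ((EtCoh.bc f).map (q t)).left := by
  obtain ⟨t, z, hz⟩ := hq (fstE f W v)
  have hP := EtCoh.isPullback_bc_map f (q t)
  obtain ⟨p₀, hp₁, -⟩ := Scheme.Pullback.exists_preimage_pullback (f := fstE f W) (g := (q t).left) v z hz.symm
  exact ⟨t, hP.isoPullback.inv p₀, by rw [← Scheme.Hom.comp_apply]; erw [hP.isoPullback_inv_fst]; exact hp₁⟩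

omit [∀ {i j : I} (f : i ⟶ j), IsAffineHom (D.map f)] [∀ i, CompactSpace (D.obj i)]
  [∀ i, QuasiSeparatedSpace (D.obj i)] [IsCofiltered I] in
theorem qcqs_fibre {X : Scheme.{u}} {U Z Z' : X.Etale} (hU : EtColimH.Qcqs U) (hZ : EtColimH.Qcqs Z)
    (hZ' : EtColimH.Qcqs Z') (a : Z ⟶ U) (b : Z' ⟶ U) :
    ∃ (P : X.Etale) (p : P ⟶ Z) (p' : P ⟶ Z'), EtColimH.Qcqs P ∧ p ≫ a = p' ≫ b ∧
      IsPullback p.left p'.left a.left b.left := by
  haveI := EtSect.etale_left a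
  haveI := EtSect.etale_left b
  haveI := Z.prop
  let P : X.Etale := Scheme.Etale.mk (pullback.fst a.left b.left ≫ Z.hom)
  let p : P ⟶ Z := MorphismProperty.Over.homMk (pullback.fst a.left b.left) rfl
  let p' : P ⟶ Z' := MorphismProperty.Over.homMk (pullback.snd a.left b.left) (by
    change _ = pullback.fst a.left b.left ≫ Z.hom
    rw [← MorphismProperty.Over.w b, ← Category.assoc, ← pullback.condition, Category.assoc,
      MorphismProperty.Over.w a])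
  haveI := hZ.1
  haveI := hZ.2
  haveI := hZ'.1
  haveI := hZ'.2
  haveI := hU.2
  haveI : QuasiCompact b.left := quasiCompact_of_compactSpace b.left
  haveI : QuasiSeparated b.left := QuasiSeparated.of_quasiSeparatedSpace b.left
  exact ⟨P, p, p', ⟨QuasiCompact.compactSpace_of_compactSpace (pullback.fst a.left b.left),
    quasiSeparatedSpace_of_quasiSeparated (pullback.fst a.left b.left)⟩,
    MorphismProperty.Over.Hom.ext pullback.condition, IsPullback.of_hasPullback _ _⟩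

omit [∀ {i j : I} (f : i ⟶ j), IsAffineHom (D.map f)] [∀ i, CompactSpace (D.obj i)]
  [∀ i, QuasiSeparatedSpace (D.obj i)] [IsCofiltered I] in
theorem ts_zero_of (hψ : S.Cocycle) {l k j : I} (b : l ⟶ k) (a : k ⟶ j) (a' : l ⟶ j) (h : b ≫ a = a')
    {W : (D.obj j).Etale} (x : EtCoh.sect (S.F j) W) (hx : S.ts a (𝟙 _) x = 0) : S.ts a' (𝟙 _) x = 0 := by
  subst h
  let q₂ : (EtCoh.bc (D.map (b ≫ a))).obj W ⟶ (EtCoh.bc (D.map b)).obj ((EtCoh.bc (D.map a)).obj W) :=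
    hm _ _ _ (pullback.lift (fstE (D.map (b ≫ a)) W) (((EtCoh.bc (D.map (b ≫ a))).obj W).hom ≫ D.map b)
      (by rw [Category.assoc, ← D.map_comp]; exact pullback.condition)) (pullback.lift_snd _ _ _)
  rw [← ts_ts S hψ b a (𝟙 _) q₂ (𝟙 _) (by
    rw [id_left_comp, id_left_comp, ← Category.assoc, hm_fst]; exact pullback.lift_fst _ _ _), hx, Datum.ts, r_zero]
  exact map_zero _

include hc hψ in
theorem surjSect_of_germS (hS : S.GermS) (hI : S.InjSect) : S.SurjSect := ⟨fun j W hW ζ => by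
  classical
  obtain ⟨k, a, ι, _, Z, q, hZ, hq, hcov⟩ := exists_finite_stage D c hc W hW
    (fun k a Z q => ∃ s : EtCoh.sect (S.F k) Z, ∀ h : (EtCoh.bc (uπ c k)).obj Z ⟶ (EtCoh.bc (uπ c j)).obj W,
      h.left ≫ fstE (uπ c j) W = fstE (uπ c k) Z ≫ q.left ≫ fstE (D.map a) W →
        S.M.obj.map h.op ζ = S.vs k (𝟙 _) s)
    (fun k l a b Z q q' hq' ⟨s, hs⟩ => by
      refine ⟨S.ts b (𝟙 _) s, fun h hh => ?_⟩
      let h₀ : (EtCoh.bc (uπ c k)).obj Z ⟶ (EtCoh.bc (uπ c j)).obj W := hm _ _ _ _ (w_step (c := c) a q)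
      let d : (EtCoh.bc (uπ c l)).obj ((EtCoh.bc (D.map b)).obj Z) ⟶ (EtCoh.bc (uπ c k)).obj Z :=
        hm _ _ _ (fstE (uπ c l) _ ≫ fstE (D.map b) Z) (w_comp (uπ c l) _ _ pullback.condition |>.trans
          (congrArg _ (uπ_w c b)))
      have e : h = d ≫ h₀ := bc_hom_ext _ _ _ (by
        rw [hh, hq', MorphismProperty.Comma.comp_left, Category.assoc, hm_fst, ← Category.assoc d.left, hm_fst,
          Category.assoc])
      rw [e, op_comp, Functor.map_comp, ConcreteCategory.comp_apply, hs h₀ (hm_fst _ _ _ _ _), vs_pre, Category.comp_id]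
      exact (vs_ts S b (𝟙 _) (𝟙 _) d ((id_left_comp _).trans ((congrArg (fun z => fstE (uπ c l) _ ≫ z)
        (id_left_comp _)).trans (hm_fst _ _ _ _ _).symm)) s).symm)
    (fun x => by
      obtain ⟨k, a, Z, q, s, hZ, hs, hx⟩ := hS.rep j W hW ζ x
      exact ⟨k, a, Z, q, hZ, ⟨s, hs⟩, hx⟩)
  choose s hs using hq
  let W' := (EtCoh.bc (D.map a)).obj W
  have hW' : EtColimH.Qcqs W' := qcqs_bc_of_qcqs _ hW
  choose P p p' hPq hPc hP using fun t : ι × ι => qcqs_fibre hW' (hZ t.1) (hZ t.2) (q t.1) (q t.2)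
  let hlim : ∀ t, (EtCoh.bc (uπ c k)).obj (Z t) ⟶ (EtCoh.bc (uπ c j)).obj W :=
    fun t => hm _ _ _ _ (w_step (c := c) a (q t))
  have hd : ∀ t : ι × ι, ∃ (l : I) (b : l ⟶ k), S.ts b (𝟙 _)
      ((S.F k).obj.map (p t).op (s t.1) - (S.F k).obj.map (p' t).op (s t.2)) = 0 := by
    intro t
    refine hI.eq k _ (hPq t) _ ?_
    have e : (EtCoh.bc (uπ c k)).map (p t) ≫ hlim t.1 = (EtCoh.bc (uπ c k)).map (p' t) ≫ hlim t.2 :=
      bc_hom_ext _ _ _ (by
        rw [MorphismProperty.Comma.comp_left, MorphismProperty.Comma.comp_left, Category.assoc, Category.assoc, hm_fst,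
          hm_fst, reassoc_of% bc_map_fst, reassoc_of% bc_map_fst, ← Category.assoc (p t).left,
          ← Category.assoc (p' t).left, (hP t).w])
    have e' := congrArg (fun z => S.M.obj.map z.op ζ) e
    simp only [op_comp, Functor.map_comp, ConcreteCategory.comp_apply] at e'
    erw [hs _ (hlim t.1) (hm_fst _ _ _ _ _), hs _ (hlim t.2) (hm_fst _ _ _ _ _), vs_pre, vs_pre] at e'
    rw [vs_sub, vs_res, vs_res, sub_eq_zero]
    simp only [Category.comp_id] at e'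
    simpa only [Category.id_comp] using e'
  choose m bm hbm using hd
  obtain ⟨⟨l, b⟩, hl⟩ : ∃ lb : Σ l : I, l ⟶ k, ∀ t, ∃ b' : lb.1 ⟶ m t, b' ≫ bm t = lb.2 := by
    obtain ⟨l, hl⟩ := IsCofiltered.inf_objs_exists (insert (Over.mk (𝟙 k)) (Finset.univ.image fun t => Over.mk (bm t)))
    exact ⟨⟨l.left, l.hom⟩, fun t => ⟨(hl (Finset.mem_insert_of_mem (Finset.mem_image_of_mem _ (Finset.mem_univ t)))).some.left,
      Over.w (hl (Finset.mem_insert_of_mem (Finset.mem_image_of_mem _ (Finset.mem_univ t)))).some⟩⟩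
  have hzero : ∀ t : ι × ι, S.ts b (𝟙 _) ((S.F k).obj.map (p t).op (s t.1) - (S.F k).obj.map (p' t).op (s t.2)) = 0 := by
    intro t
    obtain ⟨b', hb'⟩ := hl t
    exact ts_zero_of hψ b' (bm t) b hb' _ (hbm t)
  obtain ⟨u, hu⟩ := EtColimH.exists_amalg (S.F l) (fun t => (EtCoh.bc (D.map b)).obj (Z t))
    (fun t => (EtCoh.bc (D.map b)).map (q t)) (bc_cover (D.map b) q hcov) (fun t => S.ts b (𝟙 _) (s t))
    (fun t t' T α β hαβ => by
      have hw : (α.left ≫ fstE (D.map b) (Z t)) ≫ (q t).left = (β.left ≫ fstE (D.map b) (Z t')) ≫ (q t').left := by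
        have h1 : (α ≫ (EtCoh.bc (D.map b)).map (q t)).left ≫ fstE (D.map b) W' =
            (β ≫ (EtCoh.bc (D.map b)).map (q t')).left ≫ fstE (D.map b) W' :=
          congrArg (fun z => z.left ≫ fstE (D.map b) W') hαβ
        rw [MorphismProperty.Comma.comp_left, MorphismProperty.Comma.comp_left, Category.assoc, Category.assoc,
          bc_map_fst, bc_map_fst] at h1
        rwa [Category.assoc, Category.assoc]
      let m₀ : T.left ⟶ (P (t, t')).left := (hP (t, t')).lift _ _ hw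
      have w₀ : m₀ ≫ (P (t, t')).hom = T.hom ≫ D.map b := by
        rw [← MorphismProperty.Over.w (p (t, t')), ← Category.assoc, (hP (t, t')).lift_fst]
        exact left_cond (D.map b) α
      let γ : T ⟶ (EtCoh.bc (D.map b)).obj (P (t, t')) := hm _ _ _ m₀ w₀
      have hα : α = γ ≫ (EtCoh.bc (D.map b)).map (p (t, t')) := bc_hom_ext _ _ _ (by
        rw [MorphismProperty.Comma.comp_left, Category.assoc, bc_map_fst, ← Category.assoc γ.left, hm_fst,
          (hP (t, t')).lift_fst])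
      have hβ : β = γ ≫ (EtCoh.bc (D.map b)).map (p' (t, t')) := bc_hom_ext _ _ _ (by
        rw [MorphismProperty.Comma.comp_left, Category.assoc, bc_map_fst, ← Category.assoc γ.left, hm_fst,
          (hP (t, t')).lift_snd])
      have h0 := congrArg ((S.F l).obj.map γ.op) (hzero (t, t'))
      rw [map_zero, ts_pre, Category.comp_id, ts_sub, ts_res, ts_res, sub_eq_zero, ← hα, ← hβ] at h0
      rw [ts_pre, ts_pre, Category.comp_id, Category.comp_id]
      exact h0)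
  refine ⟨k, a, l, b, u, fun h hh => ?_⟩
  refine eq_of_sub_eq_zero (EtSect.eq_zero_of_cover S.M _ fun v => ?_)
  obtain ⟨t, ht⟩ := bc_cover (uπ c l) (fun t => (EtCoh.bc (D.map b)).map (q t)) (bc_cover (D.map b) q hcov) v
  refine ⟨_, (EtCoh.bc (uπ c l)).map ((EtCoh.bc (D.map b)).map (q t)), ht, ?_⟩
  rw [map_sub, sub_eq_zero, vs_pre, Category.comp_id, ← Category.id_comp ((EtCoh.bc (uπ c l)).map _), ← vs_res, hu t,
    Category.id_comp, ← ConcreteCategory.comp_apply, ← Functor.map_comp, ← op_comp]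
  let d : (EtCoh.bc (uπ c l)).obj ((EtCoh.bc (D.map b)).obj (Z t)) ⟶ (EtCoh.bc (uπ c k)).obj (Z t) :=
    hm _ _ _ (fstE (uπ c l) _ ≫ fstE (D.map b) (Z t)) (w_comp (uπ c l) _ _ pullback.condition |>.trans
      (congrArg _ (uπ_w c b)))
  rw [show (EtCoh.bc (uπ c l)).map ((EtCoh.bc (D.map b)).map (q t)) ≫ h = d ≫ hlim t from bc_hom_ext _ _ _ (by
    rw [MorphismProperty.Comma.comp_left, MorphismProperty.Comma.comp_left, Category.assoc, hh, Category.assoc, hm_fst,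
      ← Category.assoc d.left, hm_fst, reassoc_of% bc_map_fst, reassoc_of% bc_map_fst, Category.assoc]), op_comp,
    Functor.map_comp, ConcreteCategory.comp_apply, hs t (hlim t) (hm_fst _ _ _ _ _), vs_pre, Category.comp_id]
  exact (vs_ts S b (𝟙 _) (𝟙 _) d ((id_left_comp _).trans ((congrArg (fun z => fstE (uπ c l) _ ≫ z)
        (id_left_comp _)).trans (hm_fst _ _ _ _ _).symm)) (s t)).symm⟩

end Groth.Agent.EtLimit
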