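import Groth.Agent.EtColimH.Power
import Groth.Agent.EtMV.Free
import Groth.Prelude.Def_EtBase
import Mathlib

/-! Maps into base changes in small etale sites. -/

universe u

open CategoryTheory CategoryTheory.Limits AlgebraicGeometry Opposite

set_option backward.isDefEq.respectTransparency false
set_option backward.isDefEq.respectTransparency.types false

noncomputable section

namespace Groth.Agent.EtLimit

variable {X Y : Scheme.{u}} (f : Y ⟶ X)

/-- the projection of a base change -/
abbrev fstE (o : X.Etale) : ((EtCoh.bc f).obj o).left ⟶ o.left := pullback.fst o.hom f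

/-- a map over the base as a map into the base change -/
def hm (o : X.Etale) (o' : Y.Etale) (m : o'.left ⟶ o.left) (w : m ≫ o.hom = o'.hom ≫ f) :
    o' ⟶ (EtCoh.bc f).obj o :=
  MorphismProperty.Over.homMk (pullback.lift m o'.hom w) (pullback.lift_snd _ _ _)

theorem hm_fst (o : X.Etale) (o' : Y.Etale) (m : o'.left ⟶ o.left) (w : m ≫ o.hom = o'.hom ≫ f) :
    (hm f o o' m w).left ≫ fstE f o = m := pullback.lift_fst _ _ _

theorem left_snd {o : X.Etale} {o' : Y.Etale} (a : o' ⟶ (EtCoh.bc f).obj o) :
    a.left ≫ pullback.snd o.hom f = o'.hom := MorphismProperty.Over.w a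

theorem bc_hom_ext {o : X.Etale} {o' : Y.Etale} (a b : o' ⟶ (EtCoh.bc f).obj o)
    (h : a.left ≫ fstE f o = b.left ≫ fstE f o) : a = b :=
  MorphismProperty.Over.Hom.ext (pullback.hom_ext h ((left_snd f a).trans (left_snd f b).symm))

theorem bc_map_fst {o o₁ : X.Etale} (g : o₁ ⟶ o) :
    ((EtCoh.bc f).map g).left ≫ fstE f o = fstE f o₁ ≫ g.left :=
  (EtCoh.isPullback_bc_map f g).w

theorem qcqs_bc_of_qcqs [QuasiCompact f] [QuasiSeparated f] {o : X.Etale} (ho : EtColimH.Qcqs o) :
    EtColimH.Qcqs ((EtCoh.bc f).obj o) := by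
  haveI := ho.1
  haveI := ho.2
  let g : o.left ⟶ X := o.hom
  show CompactSpace (pullback g f : Scheme.{u}) ∧ QuasiSeparatedSpace (pullback g f : Scheme.{u})
  exact ⟨QuasiCompact.compactSpace_of_compactSpace (pullback.fst g f),
    quasiSeparatedSpace_of_quasiSeparated (pullback.fst g f)⟩

end Groth.Agent.EtLimit
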