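import Groth.Agent.EtLimit.Colim
import Groth.Agent.EtColimH.PTorsion
import Groth.Prelude.Def_EtLim
import Mathlib

/-! Systems of direct images from the limit. -/

universe u

open CategoryTheory CategoryTheory.Limits CategoryTheory.Abelian AlgebraicGeometry Opposite

set_option backward.isDefEq.respectTransparency false
set_option backward.isDefEq.respectTransparency.types false

noncomputable section

namespace Groth.Agent.EtLimit

set_option linter.auxLemma false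
attribute [local instance 100000] EtCoh.H._proof_1 Groth.Agent.EtMV.hext
attribute [local instance 200000] Groth.Agent.EtMV.hextAb

variable {W Y X : Scheme.{u}}

/-- `k_* G ⟶ f_* ι_* G` -/
abbrev αPush (ι : W ⟶ Y) (f : Y ⟶ X) (k : W ⟶ X) (w : ι ≫ f = k) (G : EtCoh.Ab W) :
    (EtCoh.push k).obj G ⟶ (EtCoh.push f).obj ((EtCoh.push ι).obj G) :=
  ((EtCoh.pushCongr w.symm).app G).hom ≫ (EtCoh.pushComp f ι).inv.app G

/-- the transition `f⁻¹ k_* G ⟶ ι_* G` -/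
abbrev ψPush (ι : W ⟶ Y) (f : Y ⟶ X) (k : W ⟶ X) (w : ι ≫ f = k) (G : EtCoh.Ab W) :
    (EtCoh.pull f).obj ((EtCoh.push k).obj G) ⟶ (EtCoh.push ι).obj G :=
  (EtCoh.pull f).map (αPush ι f k w G) ≫ (EtCoh.pullPushAdj f).counit.app ((EtCoh.push ι).obj G)

theorem pushCongr_refl (f : Y ⟶ X) (G : EtCoh.Ab Y) : ((EtCoh.pushCongr (rfl : f = f)).app G).hom = 𝟙 _ := by
  ext o : 3
  show G.obj.map ((MorphismProperty.Over.pullbackCongr (P := EtCoh.etaleMP) (Q := ⊤) (rfl : f = f)).inv.app o.unop).op = 𝟙 _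
  rw [show (MorphismProperty.Over.pullbackCongr (P := EtCoh.etaleMP) (Q := ⊤) (rfl : f = f)).inv.app o.unop = 𝟙 ((EtCoh.bc f).obj o.unop) from
    bc_hom_ext f _ _ (by simp [MorphismProperty.Over.pullbackCongr]; rfl)]
  exact G.obj.map_id _

theorem ψPush_compat (ι : W ⟶ Y) (f : Y ⟶ X) (k : W ⟶ X) (w : ι ≫ f = k) (G : EtCoh.Ab W) :
    (EtCoh.pull ι).map (ψPush ι f k w G) ≫ (EtCoh.pullPushAdj ι).counit.app G =
      ψh ι f k w ((EtCoh.push k).obj G) ≫ (EtCoh.pullPushAdj k).counit.app G := by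
  rw [← ψh_eq]
  subst w
  rw [ψPush, αPush, pushCongr_refl, Category.id_comp]
  simp only [EtMV.ψ, EtCore.pullCongr, eqToIso_refl, Iso.trans_hom, Iso.refl_hom, Iso.symm_hom, Category.comp_id]
  let A := EtCoh.pullPushAdj (ι ≫ f)
  let B := ((EtCoh.pullPushAdj f).comp (EtCoh.pullPushAdj ι)).ofNatIsoRight (EtCoh.pushComp f ι)
  have h := Adjunction.leftAdjointUniq_hom_app_counit A B G
  rw [EtCore.pullComp]
  refine Eq.trans ?_ (((A.leftAdjointUniq B).inv.app _ ≫= h).symm.trans (Iso.inv_hom_id_app_assoc _ _ _)).symm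
  have h1 := Adjunction.homEquiv_ofNatIsoRight_symm_apply
    ((EtCoh.pullPushAdj f).comp (EtCoh.pullPushAdj ι)) (EtCoh.pushComp f ι) (𝟙 ((EtCoh.push (ι ≫ f)).obj G))
  rw [Adjunction.homEquiv_symm_id] at h1
  rw [show B.counit.app G = _ from h1]
  simp only [Category.id_comp, Adjunction.homEquiv_counit, Adjunction.comp_counit_app, Functor.map_comp, Category.assoc]
  rfl

variable {I : Type u} [SmallCategory I] (D : I ⥤ Scheme.{u}) (c : Cone D) (F : EtCoh.Ab c.pt)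

theorem cocycle_plain {V W Y X : Scheme.{u}} (p : V ⟶ W) (ι : W ⟶ Y) (f : Y ⟶ X) (q : V ⟶ Y) (k : W ⟶ X) (m : V ⟶ X)
    (hq : p ≫ ι = q) (hk : ι ≫ f = k) (h₁ : q ≫ f = m) (h₂ : p ≫ k = m)
    {Fj : EtCoh.Ab X} {Fk : EtCoh.Ab Y} {Fl : EtCoh.Ab W} {M : EtCoh.Ab V}
    {ψb : (EtCoh.pull f).obj Fj ⟶ Fk} {ψa : (EtCoh.pull ι).obj Fk ⟶ Fl} {ψab : (EtCoh.pull k).obj Fj ⟶ Fl}
    {νl : (EtCoh.pull p).obj Fl ⟶ M} {νk : (EtCoh.pull q).obj Fk ⟶ M} {νj : (EtCoh.pull m).obj Fj ⟶ M}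
    (hinj : ∀ G : EtCoh.Ab W, Function.Injective (fun χ : G ⟶ Fl => (EtCoh.pull p).map χ ≫ νl))
    (hb : (EtCoh.pull q).map ψb ≫ νk = ψh q f m h₁ Fj ≫ νj)
    (ha : (EtCoh.pull p).map ψa ≫ νl = ψh p ι q hq Fk ≫ νk)
    (hab : (EtCoh.pull p).map ψab ≫ νl = ψh p k m h₂ Fj ≫ νj) :
    (EtCoh.pull ι).map ψb ≫ ψa = ψh ι f k hk Fj ≫ ψab := by
  refine hinj _ ?_
  show (EtCoh.pull p).map ((EtCoh.pull ι).map ψb ≫ ψa) ≫ νl = (EtCoh.pull p).map (ψh ι f k hk Fj ≫ ψab) ≫ νl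
  rw [Functor.map_comp, Functor.map_comp, Category.assoc, Category.assoc, ha, hab, ← Category.assoc, ψh_natural,
    Category.assoc, hb, reassoc_of% (ψh_assoc p ι f q k m hq hk h₁ h₂ Fj)]

theorem cocycle_of_compat {I : Type u} [SmallCategory I] {D : I ⥤ Scheme.{u}} {c : Cone D}
    [∀ {i j : I} (f : i ⟶ j), IsAffineHom (D.map f)] (S : Datum D c)
    (hinj : ∀ (l : I) (G : EtCoh.Ab (D.obj l)),
      Function.Injective (fun χ : G ⟶ S.F l => (EtCoh.pull (uπ c l)).map χ ≫ S.ν l)) : S.Cocycle :=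
  ⟨fun l k j a b => cocycle_plain (V := c.pt) (uπ c l) (D.map a) (D.map b) (uπ c k) (D.map (a ≫ b)) (uπ c j)
    (uπ_w c a) (D.map_comp a b).symm (uπ_w c b) (uπ_w c (a ≫ b)) (hinj l) (S.compat b) (S.compat a) (S.compat (a ≫ b))⟩

/-- the system of direct images -/
abbrev pushDatum : Datum D c where
  F j := (EtCoh.push (uπ c j)).obj F
  ψ {k j} a := ψPush (uπ c k) (D.map a) (uπ c j) (uπ_w c a) F
  M := F
  ν j := (EtCoh.pullPushAdj (uπ c j)).counit.app F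
  compat {k j} a := ψPush_compat (uπ c k) (D.map a) (uπ c j) (uπ_w c a) F

variable [∀ {i j : I} (f : i ⟶ j), IsAffineHom (D.map f)] [∀ i, CompactSpace (D.obj i)]
  [∀ i, QuasiSeparatedSpace (D.obj i)]

omit [∀ i, CompactSpace (D.obj i)] [∀ i, QuasiSeparatedSpace (D.obj i)] in
theorem push_h₀ (j : I) (A : EtCoh.Ab (D.obj j)) :
    (pushDatum D c F).sys.Inj 0 j A ∧ (pushDatum D c F).sys.Surj 0 j A := by
  let e := (EtCoh.pullPushAdj (uπ c j)).homEquiv A F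
  have hV : ∀ φ : A ⟶ (EtCoh.push (uπ c j)).obj F,
      (pushDatum D c F).sys.V j A 0 (Ext.mk₀ φ) = Ext.mk₀ (e.symm φ) := fun φ => by
    rw [Sys.V_apply, Ext.mapExactFunctor_mk₀, Ext.mk₀_comp_mk₀, Adjunction.homEquiv_counit]
  refine ⟨fun x hx => ?_, fun ζ => ?_⟩
  · obtain ⟨φ, rfl⟩ := (Ext.mk₀_bijective _ _).2 x
    rw [hV, Ext.mk₀_eq_zero_iff] at hx
    have h0 : e.symm 0 = 0 := by
      rw [Adjunction.homEquiv_counit, Functor.map_zero, zero_comp]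
    rw [e.symm.injective (hx.trans h0.symm), Ext.mk₀_zero]
    exact .zero
  · obtain ⟨χ, rfl⟩ := (Ext.mk₀_bijective _ _).2 ζ
    rw [← e.symm_apply_apply χ, ← hV]
    exact .here _

omit [∀ {i j : I} (f : i ⟶ j), IsAffineHom (D.map f)] [∀ i, CompactSpace (D.obj i)]
  [∀ i, QuasiSeparatedSpace (D.obj i)] in
theorem push_inj (l : I) (G : EtCoh.Ab (D.obj l)) :
    Function.Injective (fun χ : G ⟶ (pushDatum D c F).F l =>
      (EtCoh.pull (uπ c l)).map χ ≫ (pushDatum D c F).ν l) := fun χ χ' h => by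
  refine ((EtCoh.pullPushAdj (uπ c l)).homEquiv G F).symm.injective ?_
  rw [Adjunction.homEquiv_counit, Adjunction.homEquiv_counit]
  exact h

theorem push_cocycle : (pushDatum D c F).Cocycle := cocycle_of_compat _ (push_inj D c F)

theorem HofPush_apply {W X : Scheme.{u}} (u : W ⟶ X) [PreservesFiniteLimits (EtCoh.pull u)] (G : EtCoh.Ab W) (n : ℕ)
    (x : EtCoh.H X ((EtCoh.push u).obj G) n) :
    EtLim.HofPush u G n x = (EtMV.T (EtCoh.pull u) (EtCore.pullConst u ℤ).inv _ n x).comp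
      (Ext.mk₀ ((EtCoh.pullPushAdj u).counit.app G)) (add_zero n) := rfl

theorem HpushTrans_apply {W Y X : Scheme.{u}} (ι : W ⟶ Y) (f : Y ⟶ X) (k : W ⟶ X) (w : ι ≫ f = k)
    [PreservesFiniteLimits (EtCoh.pull f)] (G : EtCoh.Ab W) (n : ℕ)
    (x : Ext (EtCoh.const X ℤ) ((EtCoh.push k).obj G) n) :
    EtLim.HpushTrans f ι k w G n x =
      (EtMV.T (EtCoh.pull f) (EtCore.pullConst f ℤ).inv _ n x).comp (Ext.mk₀ (ψPush ι f k w G)) (add_zero n) := by
  refine (HofPush_apply f ((EtCoh.push ι).obj G) n (x.comp (Ext.mk₀ (αPush ι f k w G)) (add_zero n))).trans ?_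
  rw [EtMV.T_comp_mk₀, Ext.comp_assoc_of_second_deg_zero, Ext.mk₀_comp_mk₀]

variable [IsCofiltered I] (hc : IsLimit c)

include hc in
/-- direct images from the limit compute the cohomology of the limit -/
theorem push_colim [∀ j, PreservesFiniteLimits (EtCoh.pull (uπ c j))]
    [∀ {i j : I} (f : i ⟶ j), PreservesFiniteLimits (EtCoh.pull (D.map f))] (n : ℕ) :
    (∀ ξ : EtCoh.H c.pt F n, ∃ (j : I) (x : EtCoh.H (D.obj j) ((EtCoh.push (uπ c j)).obj F) n),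
      EtLim.HofPush (uπ c j) F n x = ξ) ∧
      ∀ (j : I) (x : EtCoh.H (D.obj j) ((EtCoh.push (uπ c j)).obj F) n), EtLim.HofPush (uπ c j) F n x = 0 →
        ∃ (k : I) (a : k ⟶ j), EtLim.HpushTrans (D.map a) (uπ c k) (uπ c j) (uπ_w c a) F n x = 0 := by
  refine ⟨fun ξ => ?_, fun j x hx => ?_⟩
  · obtain ⟨j, x, h⟩ := exists_lift_plain (S := pushDatum D c F) hc (push_cocycle D c F)
      (fun j A _ => push_h₀ D c F j A) n ξ
    exact ⟨j, x, (HofPush_apply (uπ c j) F n x).trans h⟩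
  · obtain ⟨k, a, h⟩ := exists_kill_plain (S := pushDatum D c F) hc (push_cocycle D c F)
      (fun j A _ => push_h₀ D c F j A) n j x ((HofPush_apply (uπ c j) F n x).symm.trans hx)
    exact ⟨k, a, (HpushTrans_apply (uπ c k) (D.map a) (uπ c j) (uπ_w c a) F n x).trans h⟩

omit [∀ {i j : I} (f : i ⟶ j), IsAffineHom (D.map f)] [∀ i, CompactSpace (D.obj i)]
  [∀ i, QuasiSeparatedSpace (D.obj i)] [IsCofiltered I] in
theorem isTorsion_push {W X : Scheme.{u}} (u : W ⟶ X) [QuasiCompact u] [QuasiSeparated u] {G : EtCoh.Ab W}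
    (hG : EtCoh.IsTorsion G) : EtCoh.IsTorsion ((EtCoh.push u).obj G) := by
  have hP : EtColimH.Exponents (fun m : ℕ => 0 < m) := ⟨id, one_pos, Nat.mul_pos⟩
  have h : EtColimH.LocKilled (fun m : ℕ => 0 < m) G := fun U s x => by
    obtain ⟨V, g, hv, hfin⟩ := hG U s x
    obtain ⟨m, hm, hs⟩ := isOfFinAddOrder_iff_nsmul_eq_zero.1 hfin
    exact ⟨V, g, m, hv, hm, hs⟩
  intro U s x
  obtain ⟨V, g, m, hv, hm, hs⟩ := EtColimH.locKilled_push hP u h U s x
  exact ⟨V, g, hv, isOfFinAddOrder_iff_nsmul_eq_zero.2 ⟨m, hm, hs⟩⟩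

include hc in
/-- cohomological dimension passes to the limit -/
theorem cohDimLE_limit (d : ℕ) (h : ∀ i, EtCoh.CohDimLE (D.obj i) d) : EtCoh.CohDimLE c.pt d := by
  intro F hF q hq
  haveI := fun j => EtPullExact.pull_preservesFiniteLimits (uπ c j)
  haveI := fun {i j : I} (f : i ⟶ j) => EtPullExact.pull_preservesFiniteLimits (D.map f)
  refine ⟨fun a b => ?_⟩
  have h0 : ∀ ξ : EtCoh.H c.pt F q, ξ = 0 := fun ξ => by
    obtain ⟨j, x, rfl⟩ := (push_colim D c F hc q).1 ξ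
    haveI : IsAffineHom (uπ c j) := isAffineHom_π_app D c hc j
    haveI := h j _ (isTorsion_push (uπ c j) hF) q hq
    rw [Subsingleton.elim x 0, map_zero]
  rw [h0 a, h0 b]

end Groth.Agent.EtLimit
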