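import Groth.Agent.EtLimit.ColimDatum
import Groth.Agent.EtMV.Base
import Mathlib

/-! Cohomology of limits with coefficients in systems of sheaves. -/

universe u

open CategoryTheory CategoryTheory.Limits CategoryTheory.Abelian AlgebraicGeometry Opposite

set_option backward.isDefEq.respectTransparency false
set_option backward.isDefEq.respectTransparency.types false

noncomputable section

namespace Groth.Agent.EtLimit

set_option linter.auxLemma false
attribute [local instance 100000] EtCoh.H._proof_1 Groth.Agent.EtMV.hext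
attribute [local instance 200000] Groth.Agent.EtMV.hextAb

variable {I : Type u} [SmallCategory I] {D : I ⥤ Scheme.{u}} {c : Cone D}
  [∀ {i j : I} (f : i ⟶ j), IsAffineHom (D.map f)] [∀ i, CompactSpace (D.obj i)]
  [∀ i, QuasiSeparatedSpace (D.obj i)] [IsCofiltered I] {S : Datum D c}
  [∀ j, PreservesFiniteLimits (EtCoh.pull (uπ c j))]

/-- surjectivity for systems with colimit on the limit -/
theorem isColim_surj (hc : IsLimit c) (hψ : S.Cocycle) (hM : S.IsColim) (n : ℕ) (ξ : EtCoh.H c.pt S.M n) :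
    ∃ (j : I) (x : EtCoh.H (D.obj j) (S.F j) n), EtLim.HpullThen (uπ c j) (S.F j) (S.ν j) n x = ξ := by
  obtain ⟨j, x, h⟩ := exists_lift_plain (S := S) hc hψ (h₀_of_isColim hc hψ hM) n ξ
  exact ⟨j, x, (HpullThen_apply (uπ c j) (S.F j) (S.ν j) n x).trans h⟩

/-- injectivity for systems with colimit on the limit -/
theorem isColim_inj (hc : IsLimit c) (hψ : S.Cocycle) (hM : S.IsColim)
    [∀ {i j : I} (f : i ⟶ j), PreservesFiniteLimits (EtCoh.pull (D.map f))] (n : ℕ) (j : I)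
    (x : EtCoh.H (D.obj j) (S.F j) n) (hx : EtLim.HpullThen (uπ c j) (S.F j) (S.ν j) n x = 0) :
    ∃ (k : I) (a : k ⟶ j), EtLim.HpullThen (D.map a) (S.F j) (S.ψ a) n x = 0 := by
  obtain ⟨k, a, h⟩ := exists_kill_plain (S := S) hc hψ (h₀_of_isColim hc hψ hM) n j x
    ((HpullThen_apply (uπ c j) (S.F j) (S.ν j) n x).symm.trans hx)
  exact ⟨k, a, (HpullThen_apply (D.map a) (S.F j) (S.ψ a) n x).trans h⟩

theorem HpullVia_eq {W Y Z : Scheme.{u}} (f : W ⟶ Y) (t : Y ⟶ Z) (f₀ : W ⟶ Z) (w : f ≫ t = f₀)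
    [PreservesFiniteLimits (EtCoh.pull f)] (G : EtCoh.Ab Z) (n : ℕ) (x : EtCoh.H Y ((EtCoh.pull t).obj G) n) :
    EtCore.HpullVia f t f₀ w G n x = EtLim.HpullThen f ((EtCoh.pull t).obj G) (ψh f t f₀ w G) n x := rfl

theorem Hpull_eq_zero_of {W Y Z : Scheme.{u}} (f : W ⟶ Y) (t : Y ⟶ Z) (f₀ : W ⟶ Z) (w : f ≫ t = f₀)
    [PreservesFiniteLimits (EtCoh.pull f)] (G : EtCoh.Ab Z) (n : ℕ) (x : EtCoh.H Y ((EtCoh.pull t).obj G) n)
    (h : EtLim.HpullThen f ((EtCoh.pull t).obj G) (ψh f t f₀ w G) n x = 0) :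
    EtCore.Hpull f ((EtCoh.pull t).obj G) n x = 0 := by
  haveI : IsIso (ψh f t f₀ w G) := inferInstanceAs (IsIso ((EtMV.ψ f t f₀ w).hom.app G))
  have h' := (HpullThen_apply f ((EtCoh.pull t).obj G) (ψh f t f₀ w G) n x).symm.trans h
  refine (Hpull_apply f ((EtCoh.pull t).obj G) n x).trans ?_
  let y : Ext (EtCoh.const W ℤ) _ n := EtMV.T (EtCoh.pull f) (EtCore.pullConst f ℤ).inv ((EtCoh.pull t).obj G) n x
  have h1 : y.comp (Ext.mk₀ (ψh f t f₀ w G)) (add_zero n) = 0 := h'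
  have h2 := congrArg (fun z => Ext.comp z (Ext.mk₀ (inv (ψh f t f₀ w G))) (add_zero n)) h1
  simp only [Ext.comp_assoc_of_second_deg_zero, Ext.mk₀_comp_mk₀, IsIso.hom_inv_id, Ext.comp_mk₀_id, Ext.zero_comp] at h2
  exact h2

variable (D c) in
/-- pulled back systems: surjectivity -/
theorem pull_surj (hc : IsLimit c) (i₀ : I) (F₀ : EtCoh.Ab (D.obj i₀)) (n : ℕ)
    (ξ : EtCoh.H c.pt ((EtCoh.pull (uπ c i₀)).obj F₀) n) :
    ∃ (o : Over i₀) (x : EtCoh.H (D.obj o.left) ((EtCoh.pull (D.map o.hom)).obj F₀) n),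
      EtCore.HpullVia (uπ c o.left) (D.map o.hom) (uπ c i₀) (uπ_w c o.hom) F₀ n x = ξ := by
  haveI : ∀ j, PreservesFiniteLimits (EtCoh.pull (uπ (c.whisker (Over.forget i₀)) j)) := fun j =>
    EtPullExact.pull_preservesFiniteLimits _
  haveI : ∀ o : Over i₀, CompactSpace ((Over.forget i₀ ⋙ D).obj o) := fun o => inferInstanceAs (CompactSpace (D.obj o.left))
  haveI : ∀ o : Over i₀, QuasiSeparatedSpace ((Over.forget i₀ ⋙ D).obj o) := fun o =>
    inferInstanceAs (QuasiSeparatedSpace (D.obj o.left))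
  haveI : ∀ {o o' : Over i₀} (f : o ⟶ o'), IsAffineHom ((Over.forget i₀ ⋙ D).map f) := fun f =>
    inferInstanceAs (IsAffineHom (D.map f.left))
  obtain ⟨o, x, h⟩ := isColim_surj (S := pullDatum c i₀ F₀) ((Functor.Initial.isLimitWhiskerEquiv (Over.forget i₀) c).symm hc)
    (pullDatum_cocycle c i₀ F₀) (pullDatum_isColim c i₀ F₀) n ξ
  exact ⟨o, x, (HpullVia_eq (uπ c o.left) (D.map o.hom) (uπ c i₀) (uπ_w c o.hom) F₀ n x).trans h⟩

variable (D c) in
/-- pulled back systems: injectivity -/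
theorem pull_inj (hc : IsLimit c) [∀ {i j : I} (f : i ⟶ j), PreservesFiniteLimits (EtCoh.pull (D.map f))]
    (i₀ : I) (F₀ : EtCoh.Ab (D.obj i₀)) (n : ℕ) (o : Over i₀)
    (x : EtCoh.H (D.obj o.left) ((EtCoh.pull (D.map o.hom)).obj F₀) n)
    (hx : EtCore.HpullVia (uπ c o.left) (D.map o.hom) (uπ c i₀) (uπ_w c o.hom) F₀ n x = 0) :
    ∃ (k : I) (a : k ⟶ o.left), EtCore.Hpull (D.map a) _ n x = 0 := by
  haveI : ∀ j, PreservesFiniteLimits (EtCoh.pull (uπ (c.whisker (Over.forget i₀)) j)) := fun j =>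
    EtPullExact.pull_preservesFiniteLimits _
  haveI : ∀ o : Over i₀, CompactSpace ((Over.forget i₀ ⋙ D).obj o) := fun o => inferInstanceAs (CompactSpace (D.obj o.left))
  haveI : ∀ o : Over i₀, QuasiSeparatedSpace ((Over.forget i₀ ⋙ D).obj o) := fun o =>
    inferInstanceAs (QuasiSeparatedSpace (D.obj o.left))
  haveI : ∀ {o o' : Over i₀} (f : o ⟶ o'), IsAffineHom ((Over.forget i₀ ⋙ D).map f) := fun f =>
    inferInstanceAs (IsAffineHom (D.map f.left))
  haveI : ∀ {o o' : Over i₀} (f : o ⟶ o'), PreservesFiniteLimits (EtCoh.pull ((Over.forget i₀ ⋙ D).map f)) := fun f =>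
    EtPullExact.pull_preservesFiniteLimits _
  obtain ⟨k, a, h⟩ := isColim_inj (S := pullDatum c i₀ F₀) ((Functor.Initial.isLimitWhiskerEquiv (Over.forget i₀) c).symm hc)
    (pullDatum_cocycle c i₀ F₀) (pullDatum_isColim c i₀ F₀) n o x
    ((HpullVia_eq (uπ c o.left) (D.map o.hom) (uπ c i₀) (uπ_w c o.hom) F₀ n x).symm.trans hx)
  exact ⟨k.left, a.left, Hpull_eq_zero_of (D.map a.left) (D.map o.hom) (D.map k.hom) (by rw [← D.map_comp, Over.w a]) F₀ n x h⟩

end Groth.Agent.EtLimit
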