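import Groth.Agent.EtLimit.Free
import Mathlib

/-! Coherence of the comparisons of iterated inverse images. -/

universe u

open CategoryTheory CategoryTheory.Limits CategoryTheory.Abelian AlgebraicGeometry Opposite

set_option backward.isDefEq.respectTransparency false
set_option backward.isDefEq.respectTransparency.types false

noncomputable section

namespace Groth.Agent.EtLimit

set_option linter.auxLemma false
attribute [local instance 100000] EtCoh.H._proof_1 Groth.Agent.EtMV.hext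
attribute [local instance 200000] Groth.Agent.EtMV.hextAb

open EtMV (r r_natural κ κ_bijective κ_pullConst)

variable {V W Y X : Scheme.{u}}

theorem homEquiv_app (f : Y ⟶ X) {G : EtCoh.Ab X} {H : EtCoh.Ab Y} (φ : (EtCoh.pull f).obj G ⟶ H) (o : X.Etale)
    (s : EtCoh.sect G o) :
    ((EtCoh.pullPushAdj f).homEquiv G H φ).hom.app (op o) s =
      φ.hom.app (op ((EtCoh.bc f).obj o)) (r f (𝟙 ((EtCoh.bc f).obj o)) G s) := by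
  rw [Adjunction.homEquiv_unit, r, op_id, CategoryTheory.Functor.map_id]
  rfl

theorem pull_hom_ext (f : Y ⟶ X) {G : EtCoh.Ab X} {H : EtCoh.Ab Y} {φ φ' : (EtCoh.pull f).obj G ⟶ H}
    (h : ∀ (o : X.Etale) (s : EtCoh.sect G o), φ.hom.app _ (r f (𝟙 ((EtCoh.bc f).obj o)) G s) =
      φ'.hom.app _ (r f (𝟙 ((EtCoh.bc f).obj o)) G s)) : φ = φ' := by
  refine ((EtCoh.pullPushAdj f).homEquiv G H).injective ?_
  ext o s
  exact ((homEquiv_app f φ o.unop s).trans (h o.unop s)).trans (homEquiv_app f φ' o.unop s).symm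

theorem fstE_id (f : Y ⟶ X) (o : X.Etale) :
    (𝟙 ((EtCoh.bc f).obj o) : (EtCoh.bc f).obj o ⟶ _).left ≫ fstE f o = fstE f o := Category.id_comp _

theorem w_comp (p : V ⟶ W) {o : X.Etale} {o' : W.Etale} (a : o'.left ⟶ o.left) (g : W ⟶ X)
    (h : a ≫ o.hom = o'.hom ≫ g) : (fstE p o' ≫ a) ≫ o.hom = ((EtCoh.bc p).obj o').hom ≫ p ≫ g := by
  rw [Category.assoc, h, ← Category.assoc, pullback.condition, Category.assoc]
  rfl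

theorem id_left_comp {o' : Y.Etale} {S : Scheme.{u}} (a : o'.left ⟶ S) : (𝟙 o' : o' ⟶ o').left ≫ a = a :=
  Category.id_comp _

theorem comp_app_apply {G H K : EtCoh.Ab X} (a : G ⟶ H) (b : H ⟶ K) (o : X.Etale) (x : EtCoh.sect G o) :
    (a ≫ b).hom.app (op o) x = b.hom.app (op o) (a.hom.app (op o) x) := rfl

theorem homEquiv₂_app (p : V ⟶ W) (ι : W ⟶ Y) {G : EtCoh.Ab Y} {H : EtCoh.Ab V}
    (C : (EtCoh.pull p).obj ((EtCoh.pull ι).obj G) ⟶ H) (o : Y.Etale) (t : EtCoh.sect G o) :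
    ((EtCoh.pullPushAdj ι).homEquiv _ _ ((EtCoh.pullPushAdj p).homEquiv _ _ C)).hom.app (op o) t =
      C.hom.app (op ((EtCoh.bc p).obj ((EtCoh.bc ι).obj o)))
        (r p (𝟙 _) _ (r ι (𝟙 ((EtCoh.bc ι).obj o)) _ t)) :=
  (homEquiv_app ι _ o t).trans (homEquiv_app p C _ _)

theorem ψ_assoc_app (p : V ⟶ W) (ι : W ⟶ Y) (f : Y ⟶ X) (q : V ⟶ Y) (k : W ⟶ X) (m : V ⟶ X) (hq : p ≫ ι = q)
    (hk : ι ≫ f = k) (h₁ : q ≫ f = m) (h₂ : p ≫ k = m) (G : EtCoh.Ab X) {o : X.Etale} (s : EtCoh.sect G o)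
    {o₁ : Y.Etale} (δ₁ : o₁ ⟶ (EtCoh.bc f).obj o) {o₂ : W.Etale} (δ₂ : o₂ ⟶ (EtCoh.bc ι).obj o₁)
    {o₃ : V.Etale} (δ₃ : o₃ ⟶ (EtCoh.bc p).obj o₂) (d : o₃ ⟶ (EtCoh.bc m).obj o)
    (dk : o₂ ⟶ (EtCoh.bc k).obj o) (dq : o₃ ⟶ (EtCoh.bc q).obj o₁)
    (hdk : δ₂.left ≫ fstE ι o₁ ≫ δ₁.left ≫ fstE f o = dk.left ≫ fstE k o)
    (hd : δ₃.left ≫ fstE p o₂ ≫ dk.left ≫ fstE k o = d.left ≫ fstE m o)
    (hdq : δ₃.left ≫ fstE p o₂ ≫ δ₂.left ≫ fstE ι o₁ = dq.left ≫ fstE q o₁)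
    (hd' : dq.left ≫ fstE q o₁ ≫ δ₁.left ≫ fstE f o = d.left ≫ fstE m o) :
    ((EtCoh.pull p).map ((EtMV.ψ ι f k hk).hom.app G) ≫ (EtMV.ψ p k m h₂).hom.app G).hom.app (op o₃)
        (r p δ₃ _ (r ι δ₂ _ (r f δ₁ G s))) =
      ((EtMV.ψ p ι q hq).hom.app ((EtCoh.pull f).obj G) ≫ (EtMV.ψ q f m h₁).hom.app G).hom.app (op o₃)
        (r p δ₃ _ (r ι δ₂ _ (r f δ₁ G s))) := by
  have a1 := r_natural p δ₃ ((EtMV.ψ ι f k hk).hom.app G) (r ι δ₂ _ (r f δ₁ G s))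
  have a2 := r_comp' ι f k hk δ₁ δ₂ dk hdk G s
  have a3 := r_comp' p k m h₂ dk δ₃ d hd G s
  have b1 := r_comp' p ι q hq δ₂ δ₃ dq hdq ((EtCoh.pull f).obj G) (r f δ₁ G s)
  have b2 := r_comp' q f m h₁ δ₁ dq d hd' G s
  refine (comp_app_apply _ _ _ _).trans (Eq.trans ?_ (comp_app_apply _ _ _ _).symm)
  erw [a1, a2, a3, b1, b2]

theorem pull₃_hom_ext (p : V ⟶ W) (ι : W ⟶ Y) (f : Y ⟶ X) {G : EtCoh.Ab X} {H : EtCoh.Ab V}
    {A B : (EtCoh.pull p).obj ((EtCoh.pull ι).obj ((EtCoh.pull f).obj G)) ⟶ H}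
    (h : ∀ (o : X.Etale) (o₁ : Y.Etale) (δ₁ : o₁ ⟶ (EtCoh.bc f).obj o) (o₂ : W.Etale) (δ₂ : o₂ ⟶ (EtCoh.bc ι).obj o₁)
      (o₃ : V.Etale) (δ₃ : o₃ ⟶ (EtCoh.bc p).obj o₂) (s : EtCoh.sect G o),
      A.hom.app (op o₃) (r p δ₃ _ (r ι δ₂ _ (r f δ₁ G s))) = B.hom.app (op o₃) (r p δ₃ _ (r ι δ₂ _ (r f δ₁ G s)))) :
    A = B := by
  refine ((EtCoh.pullPushAdj p).homEquiv _ _).injective (((EtCoh.pullPushAdj ι).homEquiv _ _).injective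
    (pull_hom_ext f fun o s => ?_))
  exact (homEquiv₂_app p ι A _ _).trans ((h o _ (𝟙 _) _ (𝟙 _) _ (𝟙 _) s).trans (homEquiv₂_app p ι B _ _).symm)

theorem left_cond (f : Y ⟶ X) {o : X.Etale} {o₁ : Y.Etale} (δ : o₁ ⟶ (EtCoh.bc f).obj o) :
    (δ.left ≫ fstE f o) ≫ o.hom = o₁.hom ≫ f := by
  rw [Category.assoc, pullback.condition, ← Category.assoc, left_snd]

theorem w_comp' (p : V ⟶ W) {o : X.Etale} {o' : W.Etale} {o'' : V.Etale} (δ : o'' ⟶ (EtCoh.bc p).obj o')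
    (a : o'.left ⟶ o.left) (g : W ⟶ X) (h : a ≫ o.hom = o'.hom ≫ g) :
    (δ.left ≫ fstE p o' ≫ a) ≫ o.hom = o''.hom ≫ p ≫ g := by
  rw [Category.assoc, Category.assoc, h, ← Category.assoc (fstE p o'), pullback.condition, Category.assoc,
    ← Category.assoc δ.left, left_snd]

/-- associativity of the comparisons -/
theorem ψ_assoc (p : V ⟶ W) (ι : W ⟶ Y) (f : Y ⟶ X) (q : V ⟶ Y) (k : W ⟶ X) (m : V ⟶ X) (hq : p ≫ ι = q)
    (hk : ι ≫ f = k) (h₁ : q ≫ f = m) (h₂ : p ≫ k = m) (G : EtCoh.Ab X) :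
    (EtCoh.pull p).map ((EtMV.ψ ι f k hk).hom.app G) ≫ (EtMV.ψ p k m h₂).hom.app G =
      (EtMV.ψ p ι q hq).hom.app ((EtCoh.pull f).obj G) ≫ (EtMV.ψ q f m h₁).hom.app G := by
  refine pull₃_hom_ext p ι f fun o o₁ δ₁ o₂ δ₂ o₃ δ₃ s => ?_
  have c₁ := left_cond f δ₁
  have c₂ := w_comp' ι δ₂ _ f c₁
  have c₃ := w_comp' p δ₃ _ _ c₂
  have c₄ := w_comp' p δ₃ _ _ (left_cond ι δ₂)
  let d₁ : o₃ ⟶ (EtCoh.bc m).obj o := hm m o o₃ _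
    (c₃.trans (congrArg (fun z => o₃.hom ≫ z) ((congrArg (fun z => p ≫ z) hk).trans h₂)))
  let dk : o₂ ⟶ (EtCoh.bc k).obj o := hm k o o₂ _ (c₂.trans (congrArg (fun z => o₂.hom ≫ z) hk))
  let dq : o₃ ⟶ (EtCoh.bc q).obj o₁ := hm q o₁ o₃ _ (c₄.trans (congrArg (fun z => o₃.hom ≫ z) hq))
  refine ψ_assoc_app p ι f q k m hq hk h₁ h₂ G s δ₁ δ₂ δ₃ d₁ dk dq ?_ ?_ ?_ ?_
  · rw [hm_fst]
  · rw [hm_fst, hm_fst]
  · rw [hm_fst]
  · rw [← Category.assoc, hm_fst, hm_fst, Category.assoc, Category.assoc, Category.assoc]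

/-- associativity, nested form -/
theorem ψh_assoc (p : V ⟶ W) (ι : W ⟶ Y) (f : Y ⟶ X) (q : V ⟶ Y) (k : W ⟶ X) (m : V ⟶ X) (hq : p ≫ ι = q)
    (hk : ι ≫ f = k) (h₁ : q ≫ f = m) (h₂ : p ≫ k = m) (G : EtCoh.Ab X) :
    (EtCoh.pull p).map (ψh ι f k hk G) ≫ ψh p k m h₂ G =
      ψh p ι q hq ((EtCoh.pull f).obj G) ≫ ψh q f m h₁ G :=
  ψ_assoc p ι f q k m hq hk h₁ h₂ G

end Groth.Agent.EtLimit
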