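import Groth.Agent.EtLimit.Induction
import Mathlib

/-! From classes on a distinguished family of objects to the concrete colimit statement. -/

universe w w' v v' u u' t

open CategoryTheory CategoryTheory.Limits CategoryTheory.Abelian

noncomputable section

namespace Groth.Agent.EtLimit

variable {J : Type t} {C : J → Type u} [∀ j, Category.{v} (C j)] [∀ j, Abelian (C j)]
  [∀ j, HasExt.{w} (C j)] [∀ j, EnoughInjectives (C j)] {Y : Type u'} [Category.{v'} Y] [Abelian Y] [HasExt.{w'} Y]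
  (s : Sys C Y)

/-- a compatible family of base objects -/
structure Sys.Base where
  /-- the objects -/
  Z : ∀ j, C j
  /-- the object on the limit -/
  W : Y
  /-- comparison of stages -/
  ε : ∀ {k j : J} (a : s.R k j), Z k ⟶ (s.L a).obj (Z j)
  /-- comparison with the limit -/
  η : ∀ j, W ⟶ (s.U j).obj (Z j)
  η_comp : ∀ {k j : J} (a : s.R k j), η k ≫ (s.U k).map (ε a) ≫ (s.iso a).hom.app (Z j) = η j

variable {s} (b : s.Base)

/-- transition on classes of the base -/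
def Sys.Base.ht {k j : J} (a : s.R k j) (n : ℕ) : Ext (b.Z j) (s.F j) n →+ Ext (b.Z k) (s.F k) n :=
  AddMonoidHom.comp (AddMonoidHom.mk' (fun e => (Ext.mk₀ (b.ε a)).comp e (zero_add n)) fun _ _ => Ext.comp_add _ _ _ _)
    (s.tr a (b.Z j) n)

/-- comparison with the limit on classes of the base -/
def Sys.Base.hv (j : J) (n : ℕ) : Ext (b.Z j) (s.F j) n →+ Ext b.W s.M n :=
  AddMonoidHom.comp (AddMonoidHom.mk' (fun e => (Ext.mk₀ (b.η j)).comp e (zero_add n)) fun _ _ => Ext.comp_add _ _ _ _)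
    (s.V j (b.Z j) n)

theorem Sys.Base.ht_apply {k j : J} (a : s.R k j) (n : ℕ) (x : Ext (b.Z j) (s.F j) n) :
    b.ht a n x = (Ext.mk₀ (b.ε a)).comp (s.tr a (b.Z j) n x) (zero_add n) := rfl

theorem Sys.Base.hv_apply (j : J) (n : ℕ) (x : Ext (b.Z j) (s.F j) n) :
    b.hv j n x = (Ext.mk₀ (b.η j)).comp (s.V j (b.Z j) n x) (zero_add n) := rfl

/-- composability of transitions -/
structure Sys.Base.Trans : Prop where
  id : ∀ j, Nonempty (s.R j j)
  comp : ∀ {l k j : J} (a : s.R l k) (a' : s.R k j), ∃ a'' : s.R l j, ∃ e : s.L a' ⋙ s.L a ≅ s.L a'',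
    (s.L a).map (s.ψ a') ≫ s.ψ a = e.hom.app (s.F j) ≫ s.ψ a'' ∧
      b.ε a ≫ (s.L a).map (b.ε a') ≫ e.hom.app (b.Z j) = b.ε a''

variable {b}

theorem exists_ht_trans (hb : b.Trans) {l k j : J} (a : s.R l k) (a' : s.R k j) (n : ℕ) :
    ∃ a'' : s.R l j, ∀ y : Ext (b.Z j) (s.F j) n, b.ht a n (b.ht a' n y) = b.ht a'' n y := by
  obtain ⟨a'', e, hψ, hε⟩ := hb.comp a a'
  refine ⟨a'', fun y => ?_⟩
  have hm := EtMV.T_T (s.L a') (s.L a) (s.L a'') e (P := b.Z j) (𝟙 _) (𝟙 _) (e.hom.app (b.Z j))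
    (by rw [CategoryTheory.Functor.map_id, Category.id_comp, Category.id_comp]) n (s.F j) y
  rw [EtMV.T_apply, EtMV.T_apply, EtMV.T_apply, Ext.mk₀_id_comp, Ext.mk₀_id_comp] at hm
  have key : s.tr a _ n (s.tr a' (b.Z j) n y) =
      (Ext.mk₀ (e.hom.app (b.Z j))).comp (s.tr a'' (b.Z j) n y) (zero_add n) := by
    rw [Sys.tr_apply, Sys.tr_apply, Sys.tr_apply, Ext.mapExactFunctor_comp, Ext.mapExactFunctor_mk₀,
      Ext.comp_assoc_of_second_deg_zero, Ext.mk₀_comp_mk₀, hψ, ← Ext.mk₀_comp_mk₀,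
      ← Ext.comp_assoc_of_second_deg_zero, hm, Ext.comp_assoc_of_third_deg_zero]
  rw [Sys.Base.ht_apply, Sys.Base.ht_apply, Sys.Base.ht_apply, Sys.tr_comp, Ext.mapExactFunctor_mk₀, key,
    Ext.mk₀_comp_mk₀_assoc, Ext.mk₀_comp_mk₀_assoc, Category.assoc, hε]

theorem exists_ht_of_dies (hb : b.Trans) {n : ℕ} {j : J} {A : C j} {x : Ext A (s.F j) n} (hx : s.Dies n A x) :
    ∀ e : b.Z j ⟶ A, ∃ (k : J) (a : s.R k j), b.ht a n ((Ext.mk₀ e).comp x (zero_add n)) = 0 := by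
  induction hx with
  | @zero j A =>
    intro e
    obtain ⟨a⟩ := hb.id j
    exact ⟨j, a, by rw [Ext.comp_zero, map_zero]⟩
  | @step k j a' A x _ ih =>
    intro e
    obtain ⟨l, a, h⟩ := ih (b.ε a' ≫ (s.L a').map e)
    obtain ⟨a'', h'⟩ := exists_ht_trans hb a a' n
    refine ⟨l, a'', ?_⟩
    rw [← h', Sys.Base.ht_apply b a', Sys.tr_comp, Ext.mapExactFunctor_mk₀, Ext.mk₀_comp_mk₀_assoc]
    exact h

theorem exists_hv_of_lifts {n : ℕ} {j : J} {A : C j} {ζ : Ext ((s.U j).obj A) s.M n} (hζ : s.Lifts n A ζ) :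
    ∀ e : b.Z j ⟶ A, ∃ (k : J) (x : Ext (b.Z k) (s.F k) n), b.hv k n x =
      (Ext.mk₀ (b.η j ≫ (s.U j).map e)).comp ζ (zero_add n) := by
  induction hζ with
  | @here j A x =>
    exact fun e => ⟨j, (Ext.mk₀ e).comp x (zero_add n),
      by rw [Sys.Base.hv_apply, Sys.V_comp, Ext.mapExactFunctor_mk₀, Ext.mk₀_comp_mk₀_assoc]⟩
  | @step k j a A ζ _ ih =>
    intro e
    obtain ⟨l, x, h⟩ := ih (b.ε a ≫ (s.L a).map e)
    refine ⟨l, x, h.trans ?_⟩
    rw [Ext.mk₀_comp_mk₀_assoc, Functor.map_comp, Category.assoc, Category.assoc, ← Functor.comp_map,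
      (s.iso a).hom.naturality, ← b.η_comp a, Category.assoc, Category.assoc]

/-- concrete surjectivity -/
theorem exists_hv_eq {n : ℕ} {j : J} [IsIso (b.η j)] (h : s.Surj n j (b.Z j)) (ξ : Ext b.W s.M n) :
    ∃ (k : J) (x : Ext (b.Z k) (s.F k) n), b.hv k n x = ξ := by
  obtain ⟨k, x, h'⟩ := exists_hv_of_lifts (h ((Ext.mk₀ (inv (b.η j))).comp ξ (zero_add n))) (𝟙 _)
  refine ⟨k, x, h'.trans ?_⟩
  rw [CategoryTheory.Functor.map_id, Category.comp_id, Ext.mk₀_comp_mk₀_assoc, IsIso.hom_inv_id, Ext.mk₀_id_comp]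

/-- concrete injectivity -/
theorem exists_ht_eq_zero (hb : b.Trans) {n : ℕ} {j : J} [IsIso (b.η j)] (h : s.Inj n j (b.Z j))
    (x : Ext (b.Z j) (s.F j) n) (hx : b.hv j n x = 0) : ∃ (k : J) (a : s.R k j), b.ht a n x = 0 := by
  have h1 := congrArg (fun z => (Ext.mk₀ (inv (b.η j))).comp z (zero_add n)) hx
  rw [Ext.comp_zero, Sys.Base.hv_apply, Ext.mk₀_comp_mk₀_assoc, IsIso.inv_hom_id, Ext.mk₀_id_comp] at h1
  obtain ⟨k, a, h2⟩ := exists_ht_of_dies hb (h x h1) (𝟙 _)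
  rw [Ext.mk₀_id_comp] at h2
  exact ⟨k, a, h2⟩

end Groth.Agent.EtLimit
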