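import Groth.Agent.EtLimit.System
import Groth.Agent.EtLimit.Coherence
import Groth.Agent.EtLimit.Conv
import Mathlib

/-! Cohomology commutes with cofiltered limits: concrete form. -/

universe u

open CategoryTheory CategoryTheory.Limits CategoryTheory.Abelian AlgebraicGeometry Opposite

set_option backward.isDefEq.respectTransparency false
set_option backward.isDefEq.respectTransparency.types false

noncomputable section

namespace Groth.Agent.EtLimit

set_option linter.auxLemma false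
attribute [local instance 100000] EtCoh.H._proof_1 Groth.Agent.EtMV.hext
attribute [local instance 200000] Groth.Agent.EtMV.hextAb

open EtMV (r r_natural κ κ_bijective κ_pullConst)

theorem pullConst_comp {W Y X : Scheme.{u}} (ι : W ⟶ Y) (f : Y ⟶ X) (k : W ⟶ X) (w : ι ≫ f = k) :
    (EtCore.pullConst ι ℤ).inv ≫ (EtCoh.pull ι).map (EtCore.pullConst f ℤ).inv ≫
      (EtMV.ψ ι f k w).hom.app (EtCoh.const X ℤ) = (EtCore.pullConst k ℤ).inv := by
  refine (κ_bijective _).1 ?_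
  rw [EtMV.κ_comp, EtMV.κ_pullConst k (EtMV.δtop k), EtMV.κ_pullConst ι (EtMV.δtop ι)]
  refine (comp_app_apply _ _ _ _).trans ((congrArg _ ((r_natural ι _ _ _).trans (congrArg (r ι (EtMV.δtop ι) _)
    (EtMV.κ_pullConst f (EtMV.δtop f))))).trans ?_)
  exact EtMV.r_comp ι f k w EtMV.thin_top (EtMV.δtop f) (EtMV.δtop ι) (EtMV.δtop k) _ _

variable {I : Type u} [SmallCategory I] {D : I ⥤ Scheme.{u}} {c : Cone D}
  [∀ {i j : I} (f : i ⟶ j), IsAffineHom (D.map f)] [∀ i, CompactSpace (D.obj i)]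
  [∀ i, QuasiSeparatedSpace (D.obj i)] (S : Datum D c)

/-- the base objects `ℤ` -/
def Datum.base : S.sys.Base where
  Z j := EtCoh.const (D.obj j) ℤ
  W := EtCoh.const c.pt ℤ
  ε a := (EtCore.pullConst (D.map a) ℤ).inv
  η j := (EtCore.pullConst (uπ c j) ℤ).inv
  η_comp {k j} a := pullConst_comp (uπ c k) (D.map a) (uπ c j) (uπ_w c a)

/-- the cocycle condition -/
structure Datum.Cocycle : Prop where
  eq : ∀ ⦃l k j : I⦄ (a : l ⟶ k) (b : k ⟶ j), (EtCoh.pull (D.map a)).map (S.ψ b) ≫ S.ψ a =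
    ψh (D.map a) (D.map b) (D.map (a ≫ b)) (D.map_comp a b).symm (S.F j) ≫ S.ψ (a ≫ b)

variable {S}

/-- transitions compose, for an abstract comparison (keeps kernel comparisons syntactic) -/
theorem base_comp_of {l k j : I} (a : l ⟶ k) (b : k ⟶ j)
    (e : EtCoh.pull (D.map b) ⋙ EtCoh.pull (D.map a) ≅ EtCoh.pull (D.map (a ≫ b)))
    (h₁ : (EtCoh.pull (D.map a)).map (S.ψ b) ≫ S.ψ a = e.hom.app (S.F j) ≫ S.ψ (a ≫ b))
    (h₂ : (EtCore.pullConst (D.map a) ℤ).inv ≫ (EtCoh.pull (D.map a)).map (EtCore.pullConst (D.map b) ℤ).inv ≫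
        e.hom.app (EtCoh.const (D.obj j) ℤ) = (EtCore.pullConst (D.map (a ≫ b)) ℤ).inv) :
    ∃ a'' : S.sys.R l j, ∃ e : S.sys.L b ⋙ S.sys.L a ≅ S.sys.L a'',
      (S.sys.L a).map (S.sys.ψ b) ≫ S.sys.ψ a = e.hom.app (S.sys.F j) ≫ S.sys.ψ a'' ∧
        S.base.ε a ≫ (S.sys.L a).map (S.base.ε b) ≫ e.hom.app (S.base.Z j) = S.base.ε a'' :=
  ⟨a ≫ b, e, h₁, h₂⟩

theorem base_trans (hψ : S.Cocycle) : S.base.Trans where
  id j := ⟨𝟙 j⟩
  comp {l k j} a b := base_comp_of a b (EtMV.ψ (D.map a) (D.map b) (D.map (a ≫ b)) (D.map_comp a b).symm) (hψ.eq a b)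
    (pullConst_comp (D.map a) (D.map b) (D.map (a ≫ b)) (D.map_comp a b).symm)

instance (j : I) : IsIso (S.base.η j) := inferInstanceAs (IsIso (EtCore.pullConst (uπ c j) ℤ).inv)

omit [∀ i, CompactSpace (D.obj i)] [∀ i, QuasiSeparatedSpace (D.obj i)] in
theorem hv_plain (j : I) [PreservesFiniteLimits (EtCoh.pull (uπ c j))] (n : ℕ)
    (x : Ext (EtCoh.const (D.obj j) ℤ) (S.F j) n) :
    S.base.hv j n x = (EtMV.T (EtCoh.pull (uπ c j)) (EtCore.pullConst (uπ c j) ℤ).inv _ n x).comp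
      (Ext.mk₀ (S.ν j)) (add_zero n) := by
  rw [EtMV.T_apply, Ext.comp_assoc_of_third_deg_zero]
  rfl

omit [∀ i, CompactSpace (D.obj i)] [∀ i, QuasiSeparatedSpace (D.obj i)] in
theorem ht_plain {k j : I} (a : k ⟶ j) [PreservesFiniteLimits (EtCoh.pull (D.map a))] (n : ℕ)
    (x : Ext (EtCoh.const (D.obj j) ℤ) (S.F j) n) :
    S.base.ht a n x = (EtMV.T (EtCoh.pull (D.map a)) (EtCore.pullConst (D.map a) ℤ).inv _ n x).comp
      (Ext.mk₀ (S.ψ a)) (add_zero n) := by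
  rw [EtMV.T_apply, Ext.comp_assoc_of_third_deg_zero]
  rfl

variable [IsCofiltered I]

/-- classes on the limit come from some stage; a class dying on the limit dies at some stage -/
theorem colim (hc : IsLimit c) (hψ : S.Cocycle)
    (h₀ : ∀ j (A : EtCoh.Ab (D.obj j)), Gen A → S.sys.Inj 0 j A ∧ S.sys.Surj 0 j A) (n : ℕ) :
    (∀ ξ : Ext (EtCoh.const c.pt ℤ) S.M n,
      ∃ (j : I) (x : Ext (EtCoh.const (D.obj j) ℤ) (S.F j) n), S.base.hv j n x = ξ) ∧
      ∀ (j : I) (x : Ext (EtCoh.const (D.obj j) ℤ) (S.F j) n), S.base.hv j n x = 0 →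
        ∃ (k : I) (a : k ⟶ j), S.base.ht a n x = 0 := by
  obtain ⟨j₀⟩ := IsCofiltered.nonempty (C := I)
  refine ⟨fun ξ => exists_hv_eq (b := S.base) (j := j₀) (datum_main S hc h₀ n j₀ _ (gen_const j₀)).2 ξ,
    fun j x hx => exists_ht_eq_zero (b := S.base) (base_trans hψ) (datum_main S hc h₀ n j _ (gen_const j)).1 x hx⟩

/-- classes on the limit come from some stage; plain form -/
theorem exists_lift_plain (hc : IsLimit c) (hψ : S.Cocycle)
    (h₀ : ∀ j (A : EtCoh.Ab (D.obj j)), Gen A → S.sys.Inj 0 j A ∧ S.sys.Surj 0 j A)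
    [∀ j, PreservesFiniteLimits (EtCoh.pull (uπ c j))] (n : ℕ) (ξ : Ext (EtCoh.const c.pt ℤ) S.M n) :
    ∃ (j : I) (x : Ext (EtCoh.const (D.obj j) ℤ) (S.F j) n),
      (EtMV.T (EtCoh.pull (uπ c j)) (EtCore.pullConst (uπ c j) ℤ).inv _ n x).comp
        (Ext.mk₀ (S.ν j)) (add_zero n) = ξ := by
  obtain ⟨j, x, h⟩ := (colim hc hψ h₀ n).1 ξ
  exact ⟨j, x, by rw [← hv_plain]; exact h⟩

/-- a class dying on the limit dies at some stage; plain form -/
theorem exists_kill_plain (hc : IsLimit c) (hψ : S.Cocycle)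
    (h₀ : ∀ j (A : EtCoh.Ab (D.obj j)), Gen A → S.sys.Inj 0 j A ∧ S.sys.Surj 0 j A)
    [∀ j, PreservesFiniteLimits (EtCoh.pull (uπ c j))]
    [∀ {i j : I} (f : i ⟶ j), PreservesFiniteLimits (EtCoh.pull (D.map f))] (n : ℕ) (j : I)
    (x : Ext (EtCoh.const (D.obj j) ℤ) (S.F j) n)
    (hx : (EtMV.T (EtCoh.pull (uπ c j)) (EtCore.pullConst (uπ c j) ℤ).inv _ n x).comp
        (Ext.mk₀ (S.ν j)) (add_zero n) = 0) :
    ∃ (k : I) (a : k ⟶ j), (EtMV.T (EtCoh.pull (D.map a)) (EtCore.pullConst (D.map a) ℤ).inv _ n x).comp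
      (Ext.mk₀ (S.ψ a)) (add_zero n) = 0 := by
  obtain ⟨k, a, h⟩ := (colim hc hψ h₀ n).2 j x (by rw [hv_plain]; exact hx)
  exact ⟨k, a, by rw [← ht_plain]; exact h⟩

end Groth.Agent.EtLimit
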