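import Groth.Agent.EtLimit.Zero
import Groth.Prelude.Def_EtLim
import Groth.Agent.LimDesc.Tower
import Mathlib

/-! The additive and multiplicative groups on a limit of schemes. -/

universe u

open CategoryTheory CategoryTheory.Limits CategoryTheory.Abelian AlgebraicGeometry Opposite

set_option backward.isDefEq.respectTransparency false
set_option backward.isDefEq.respectTransparency.types false

noncomputable section

namespace Groth.Agent.EtLimit

set_option linter.auxLemma false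
attribute [local instance 100000] EtCoh.H._proof_1 Groth.Agent.EtMV.hext
attribute [local instance 200000] Groth.Agent.EtMV.hextAb

open EtMV (r r_natural)

variable (P : Sheaf Scheme.etaleTopology.{u} AddCommGrpCat.{u + 1})

theorem pmap_comp {T U V : Scheme.{u}} (b : T ⟶ U) (a : U ⟶ V) (s : P.obj.obj (op V)) :
    P.obj.map b.op (P.obj.map a.op s) = P.obj.map (b ≫ a).op s := by
  rw [← ConcreteCategory.comp_apply, ← Functor.map_comp, ← op_comp]

theorem pmap_congr {T V : Scheme.{u}} {a b : T ⟶ V} (h : a = b) (s : P.obj.obj (op V)) :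
    P.obj.map a.op s = P.obj.map b.op s := by rw [h]

/-- the restriction of a sheaf of all schemes to a small etale site -/
def gp (X : Scheme.{u}) : EtCoh.Ab X :=
  ((Scheme.Etale.forget X ⋙ Over.forget X).sheafPushforwardContinuous _ _ Scheme.etaleTopology).obj P

/-- functoriality in the scheme -/
def gpPush {X Y : Scheme.{u}} (f : X ⟶ Y) : gp P Y ⟶ (EtCoh.push f).obj (gp P X) :=
  ObjectProperty.homMk (Functor.whiskerRight (NatTrans.op (EtLim.bcProj f)) P.obj)

/-- functoriality in the scheme, adjoint form -/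
def gpMap {X Y : Scheme.{u}} (f : X ⟶ Y) : (EtCoh.pull f).obj (gp P Y) ⟶ gp P X :=
  (EtCoh.pull f).map (gpPush P f) ≫ (EtCoh.pullPushAdj f).counit.app (gp P X)

theorem r_counit {X Y : Scheme.{u}} (f : X ⟶ Y) (G : EtCoh.Ab X) {o : Y.Etale} {o' : X.Etale}
    (q : o' ⟶ (EtCoh.bc f).obj o) (x : EtCoh.sect ((EtCoh.push f).obj G) o) :
    ((EtCoh.pullPushAdj f).counit.app G).hom.app (op o') (r f q _ x) = G.obj.map q.op x := by
  rw [r]
  refine (NatTrans.naturality_apply ((EtCoh.pullPushAdj f).counit.app G).hom q.op _).trans (congrArg _ ?_)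
  exact ConcreteCategory.congr_hom
    (congr_app (congrArg (fun z => z.hom) ((EtCoh.pullPushAdj f).right_triangle_components G)) (op o)) x

theorem gpMap_r {X Y : Scheme.{u}} (f : X ⟶ Y) {o : Y.Etale} {o' : X.Etale}
    (q : o' ⟶ (EtCoh.bc f).obj o) (s : EtCoh.sect (gp P Y) o) :
    (gpMap P f).hom.app (op o') (r f q _ s) = P.obj.map (q.left ≫ fstE f o).op s := by
  rw [gpMap, comp_app_apply, r_natural]
  erw [r_counit]
  exact pmap_comp P q.left (fstE f o) s

theorem gpMap_comp {W Y X : Scheme.{u}} (ι : W ⟶ Y) (f : Y ⟶ X) (k : W ⟶ X) (w : ι ≫ f = k) :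
    (EtCoh.pull ι).map (gpMap P f) ≫ gpMap P ι = ψh ι f k w (gp P X) ≫ gpMap P k := by
  refine ((EtCoh.pullPushAdj ι).homEquiv _ _).injective (pull_hom_ext f fun o s => ?_)
  refine Eq.trans (homEquiv_app ι _ _ _) ?_
  refine Eq.trans ?_ (homEquiv_app ι (ψh ι f k w (gp P X) ≫ gpMap P k) ((EtCoh.bc f).obj o) (r f (𝟙 _) (gp P X) s)).symm
  let o₁ := (EtCoh.bc f).obj o
  let o₂ := (EtCoh.bc ι).obj o₁
  let d : o₂ ⟶ (EtCoh.bc k).obj o := hm k o o₂ (fstE ι o₁ ≫ fstE f o)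
    ((w_comp ι (fstE f o) f pullback.condition).trans (congrArg _ w))
  have hd : d.left ≫ fstE k o = fstE ι o₁ ≫ fstE f o := hm_fst _ _ _ _ _
  rw [comp_app_apply, r_natural, gpMap_r, gpMap_r, comp_app_apply]
  refine Eq.trans ?_ (congrArg ((gpMap P k).hom.app (op o₂))
    (r_comp' ι f k w (𝟙 o₁) (𝟙 o₂) d (by rw [id_left_comp, id_left_comp, hd]) (gp P X) s)).symm
  rw [gpMap_r, hd]
  refine (pmap_comp P _ _ s).trans (pmap_congr P ?_ s)
  rw [id_left_comp, id_left_comp]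

/-- `P` commutes with cofiltered limits of qcqs schemes -/
structure LimComm : Prop where
  surj : ∀ {J : Type u} [SmallCategory J] [IsCofiltered J] (E : J ⥤ Scheme.{u}) (e : Cone E) (_ : IsLimit e)
    [∀ {i j : J} (f : i ⟶ j), IsAffineHom (E.map f)] [∀ i, CompactSpace (E.obj i)]
    [∀ i, QuasiSeparatedSpace (E.obj i)] (s : P.obj.obj (op e.pt)),
    ∃ (i : J) (t : P.obj.obj (op (E.obj i))), P.obj.map (e.π.app i).op t = s
  inj : ∀ {J : Type u} [SmallCategory J] [IsCofiltered J] (E : J ⥤ Scheme.{u}) (e : Cone E) (_ : IsLimit e)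
    [∀ {i j : J} (f : i ⟶ j), IsAffineHom (E.map f)] [∀ i, CompactSpace (E.obj i)]
    [∀ i, QuasiSeparatedSpace (E.obj i)] (i : J) (s : P.obj.obj (op (E.obj i))),
    P.obj.map (e.π.app i).op s = 0 → ∃ (j : J) (a : j ⟶ i), P.obj.map (E.map a).op s = 0

variable {I : Type u} [SmallCategory I] (D : I ⥤ Scheme.{u}) (c : Cone D)

/-- the system of a sheaf of all schemes -/
abbrev gpDatum : Datum D c where
  F j := gp P (D.obj j)
  ψ a := gpMap P (D.map a)
  M := gp P c.pt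
  ν j := gpMap P (uπ c j)
  compat {k j} a := gpMap_comp P (uπ c k) (D.map a) (uπ c j) (uπ_w c a)

theorem gpDatum_cocycle : (gpDatum P D c).Cocycle :=
  ⟨fun l k j b a => gpMap_comp P (D.map b) (D.map a) (D.map (b ≫ a)) (D.map_comp b a).symm⟩

theorem gp_vs (j : I) {W : (D.obj j).Etale} {T : c.pt.Etale} (δ : T ⟶ (EtCoh.bc (uπ c j)).obj W)
    (s : EtCoh.sect (gp P (D.obj j)) W) :
    (gpDatum P D c).vs j δ s = P.obj.map (δ.left ≫ fstE (uπ c j) W).op s := gpMap_r P (uπ c j) δ s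

theorem gp_ts {k j : I} (a : k ⟶ j) {W : (D.obj j).Etale} {Z : (D.obj k).Etale}
    (q : Z ⟶ (EtCoh.bc (D.map a)).obj W) (s : EtCoh.sect (gp P (D.obj j)) W) :
    (gpDatum P D c).ts a q s = P.obj.map (q.left ≫ fstE (D.map a) W).op s := gpMap_r P (D.map a) q s

variable [∀ {i j : I} (f : i ⟶ j), IsAffineHom (D.map f)] [IsCofiltered I] (hc : IsLimit c)

variable {D c}

omit [IsCofiltered I] in
theorem gp_sect_aux (hP : LimComm P) (hc : IsLimit c) [IsCofiltered I] :
    (gpDatum P D c).InjSect ∧ (gpDatum P D c).SurjSect := by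
  constructor
  · refine ⟨fun j W hW s hs => ?_⟩
    let w₀ : W.left ⟶ D.obj j := W.hom
    haveI : CompactSpace W.left := hW.1
    haveI : QuasiSeparatedSpace W.left := hW.2
    haveI : ∀ l, CompactSpace ((LimDesc.tower D w₀).obj l) := fun l => LimDesc.compactSpace_stage D w₀ l
    haveI : ∀ l, QuasiSeparatedSpace ((LimDesc.tower D w₀).obj l) := fun l => LimDesc.quasiSeparatedSpace_stage D w₀ l
    let hY : IsPullback (fstE (uπ c j) W) (pullback.snd W.hom (uπ c j)) w₀ (c.π.app j) := .of_hasPullback _ _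
    have hl := LimDesc.isLimitTowerCone D w₀ c hY hc
    let o₀ : Over j := Over.mk (𝟙 j)
    have hs' : P.obj.map (fstE (uπ c j) W).op s = 0 := by
      have := (gp_vs P D c j (𝟙 ((EtCoh.bc (uπ c j)).obj W)) s).symm.trans hs
      rwa [id_left_comp] at this
    obtain ⟨o, a, ha⟩ := hP.inj (LimDesc.tower D w₀) (LimDesc.towerCone D w₀ c hY) hl o₀
      (P.obj.map (LimDesc.toBase D w₀ o₀).op s) (by
        refine (pmap_comp P _ _ _).trans ((pmap_congr P ?_ s).trans hs')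
        exact LimDesc.proj_toBase D w₀ c hY o₀)
    refine ⟨o.left, o.hom, (gp_ts P D c o.hom (𝟙 _) s).trans ?_⟩
    refine (pmap_congr P ?_ s).trans ((pmap_comp P (LimDesc.trans D w₀ a) (LimDesc.toBase D w₀ o₀) s).symm.trans ha)
    exact (id_left_comp _).trans (LimDesc.trans_toBase D w₀ a).symm
  · refine ⟨fun j W hW ζ => ?_⟩
    let w₀ : W.left ⟶ D.obj j := W.hom
    haveI : CompactSpace W.left := hW.1
    haveI : QuasiSeparatedSpace W.left := hW.2
    haveI : ∀ l, CompactSpace ((LimDesc.tower D w₀).obj l) := fun l => LimDesc.compactSpace_stage D w₀ l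
    haveI : ∀ l, QuasiSeparatedSpace ((LimDesc.tower D w₀).obj l) := fun l => LimDesc.quasiSeparatedSpace_stage D w₀ l
    let hY : IsPullback (fstE (uπ c j) W) (pullback.snd W.hom (uπ c j)) w₀ (c.π.app j) := .of_hasPullback _ _
    have hl := LimDesc.isLimitTowerCone D w₀ c hY hc
    obtain ⟨o, t, ht⟩ := hP.surj (LimDesc.tower D w₀) (LimDesc.towerCone D w₀ c hY) hl ζ
    let W₁ := (EtCoh.bc (D.map o.hom)).obj W
    refine ⟨o.left, o.hom, o.left, 𝟙 o.left, P.obj.map (fstE (D.map (𝟙 o.left)) W₁).op t, fun h hh => ?_⟩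
    refine Eq.trans ?_ (gp_vs P D c o.left (𝟙 ((EtCoh.bc (uπ c o.left)).obj ((EtCoh.bc (D.map (𝟙 o.left))).obj W₁))) _).symm
    refine Eq.trans ?_ (pmap_comp P _ _ t).symm
    rw [← ht]
    refine (pmap_comp P h.left _ t).trans (pmap_congr P ?_ t)
    erw [id_left_comp]
    show h.left ≫ LimDesc.proj D w₀ c hY o = _
    refine pullback.hom_ext (f := w₀) (g := D.map o.hom) ?_ ?_
    · show (_ ≫ LimDesc.proj D w₀ c hY o) ≫ LimDesc.toBase D w₀ o = _
      rw [Category.assoc h.left, LimDesc.proj_toBase]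
      simp only [Category.assoc]
      exact hh
    · show (_ ≫ LimDesc.proj D w₀ c hY o) ≫ LimDesc.toStage D w₀ o = _
      rw [Category.assoc h.left, LimDesc.proj_toStage, ← Category.assoc]
      erw [left_snd, Category.assoc, pullback.condition (f := W₁.hom), D.map_id, Category.comp_id, pullback.condition]
      rfl

/-- global functions -/
abbrev addSheaf : Sheaf Scheme.etaleTopology.{u} AddCommGrpCat.{u + 1} := ⟨EtCoh.ΓAdd, EtCoh.isSheaf_ΓAdd⟩

/-- units of global functions -/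
abbrev unitSheaf : Sheaf Scheme.etaleTopology.{u} AddCommGrpCat.{u + 1} := ⟨EtCoh.ΓUnits, EtCoh.isSheaf_ΓUnits⟩

theorem limComm_add : LimComm addSheaf.{u} where
  surj {J} _ _ E e he _ _ _ s := by
    let s' : ULift.{u + 1} Γ(e.pt, ⊤) := s
    obtain ⟨i, t, ht⟩ := exists_appTop_π_eq_of_isLimit E e he s'.down
    exact ⟨i, (ULift.up t : ULift.{u + 1} Γ(E.obj i, ⊤)), ULift.ext _ _ ht.symm⟩
  inj {J} _ _ E e he _ _ _ i s hs := by
    let s' : ULift.{u + 1} Γ(E.obj i, ⊤) := s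
    have h : (e.π.app i).appTop s'.down = 0 := congrArg (fun z : ULift.{u + 1} Γ(e.pt, ⊤) => z.down) hs
    obtain ⟨j, a, ha⟩ := exists_appTop_map_eq_zero_of_isLimit E e he s'.down h
    exact ⟨j, a, ULift.ext _ _ ha⟩

theorem exists_appTop_eq {J : Type u} [SmallCategory J] [IsCofiltered J] (E : J ⥤ Scheme.{u}) (e : Cone E)
    (he : IsLimit e) [∀ {i j : J} (f : i ⟶ j), IsAffineHom (E.map f)] {i : J} [CompactSpace (E.obj i)]
    (s t : Γ(E.obj i, ⊤)) (h : (e.π.app i).appTop s = (e.π.app i).appTop t) :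
    ∃ (j : J) (a : j ⟶ i), (E.map a).appTop s = (E.map a).appTop t := by
  obtain ⟨j, a, ha⟩ := exists_appTop_map_eq_zero_of_isLimit E e he (s - t) (by rw [map_sub, h, sub_self])
  exact ⟨j, a, sub_eq_zero.1 (by rw [← map_sub]; exact ha)⟩

theorem appTop_appTop {U V T : Scheme.{u}} (b : U ⟶ V) (a : T ⟶ U) (t : Γ(V, ⊤)) :
    a.appTop (b.appTop t) = (a ≫ b).appTop t := by rw [Scheme.Hom.comp_appTop]; rfl

theorem limComm_unit : LimComm unitSheaf.{u} where
  surj {J} _ _ E e he _ _ _ s := by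
    let s' : ULift.{u + 1} (Additive (Γ(e.pt, ⊤))ˣ) := s
    let v : (Γ(e.pt, ⊤))ˣ := Additive.toMul s'.down
    obtain ⟨i, t, ht⟩ := exists_appTop_π_eq_of_isLimit E e he (v : Γ(e.pt, ⊤))
    obtain ⟨i', t', ht'⟩ := exists_appTop_π_eq_of_isLimit E e he ((v⁻¹ : (Γ(e.pt, ⊤))ˣ) : Γ(e.pt, ⊤))
    let a := IsCofiltered.minToLeft i i'
    let a' := IsCofiltered.minToRight i i'
    let T := (E.map a).appTop t
    let T' := (E.map a').appTop t'
    have hT : (e.π.app _).appTop T = (v : Γ(e.pt, ⊤)) := by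
      rw [appTop_appTop, e.w a]; exact ht.symm
    have hT' : (e.π.app _).appTop T' = ((v⁻¹ : (Γ(e.pt, ⊤))ˣ) : Γ(e.pt, ⊤)) := by
      rw [appTop_appTop, e.w a']; exact ht'.symm
    obtain ⟨k, b, hb⟩ := exists_appTop_eq E e he (T * T') 1 (by rw [map_mul, map_one, hT, hT']; exact v.mul_inv)
    rw [map_one, map_mul] at hb
    let w : (Γ(E.obj k, ⊤))ˣ := ⟨_, _, hb, by rw [mul_comm]; exact hb⟩
    refine ⟨k, (ULift.up (Additive.ofMul w) : ULift.{u + 1} (Additive (Γ(E.obj k, ⊤))ˣ)), ?_⟩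
    refine ULift.ext _ _ (Additive.toMul.injective (Units.ext ?_))
    show (e.π.app k).appTop ((E.map b).appTop T) = (v : Γ(e.pt, ⊤))
    rw [appTop_appTop, e.w b]; exact hT
  inj {J} _ _ E e he _ _ _ i s hs := by
    let s' : ULift.{u + 1} (Additive (Γ(E.obj i, ⊤))ˣ) := s
    let v : (Γ(E.obj i, ⊤))ˣ := Additive.toMul s'.down
    have h : (e.π.app i).appTop (v : Γ(E.obj i, ⊤)) = 1 := congrArg
      (fun z : ULift.{u + 1} (Additive (Γ(e.pt, ⊤))ˣ) => ((Additive.toMul z.down : (Γ(e.pt, ⊤))ˣ) : Γ(e.pt, ⊤))) hs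
    obtain ⟨j, a, ha⟩ := exists_appTop_eq E e he (v : Γ(E.obj i, ⊤)) 1 (by rw [h, map_one])
    rw [map_one] at ha
    exact ⟨j, a, ULift.ext _ _ (Additive.toMul.injective (Units.ext ha))⟩

/-- the cohomology map of the system -/
theorem gp_colim (hP : LimComm P) {D : I ⥤ Scheme.{u}} {c : Cone D} [∀ {i j : I} (f : i ⟶ j), IsAffineHom (D.map f)]
    [∀ i, CompactSpace (D.obj i)] [∀ i, QuasiSeparatedSpace (D.obj i)] [IsCofiltered I] (hc : IsLimit c)
    [∀ j, PreservesFiniteLimits (EtCoh.pull (uπ c j))]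
    [∀ {i j : I} (f : i ⟶ j), PreservesFiniteLimits (EtCoh.pull (D.map f))] (n : ℕ) :
    (∀ ξ : EtCoh.H c.pt (gp P c.pt) n, ∃ (j : I) (x : EtCoh.H (D.obj j) (gp P (D.obj j)) n),
      EtLim.HofPush (uπ c j) (gp P c.pt) n (((EtCoh.HF (D.obj j) n).map (gpPush P (uπ c j))).hom x) = ξ) ∧
      ∀ (j : I) (x : EtCoh.H (D.obj j) (gp P (D.obj j)) n),
        EtLim.HofPush (uπ c j) (gp P c.pt) n (((EtCoh.HF (D.obj j) n).map (gpPush P (uπ c j))).hom x) = 0 →
        ∃ (k : I) (a : k ⟶ j),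
          EtLim.HofPush (D.map a) (gp P (D.obj k)) n (((EtCoh.HF (D.obj j) n).map (gpPush P (D.map a))).hom x) = 0 := by
  obtain ⟨hI, hS⟩ := gp_sect_aux (D := D) (c := c) P hP hc
  have h₀ : ∀ j (A : EtCoh.Ab (D.obj j)), Gen A →
      (gpDatum P D c).sys.Inj 0 j A ∧ (gpDatum P D c).sys.Surj 0 j A :=
    fun j A hA => ⟨inj₀_of_sect hI j A hA, surj₀_of_sect hS j A hA⟩
  have e : ∀ {X Y : Scheme.{u}} (f : X ⟶ Y) [PreservesFiniteLimits (EtCoh.pull f)]
      (x : Ext (EtCoh.const Y ℤ) (gp P Y) n),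
      EtLim.HofPush f (gp P X) n (((EtCoh.HF Y n).map (gpPush P f)).hom x) =
        (EtMV.T (EtCoh.pull f) (EtCore.pullConst f ℤ).inv _ n x).comp (Ext.mk₀ (gpMap P f)) (add_zero n) := by
    intro X Y f _ x
    refine (show EtLim.HofPush f (gp P X) n (((EtCoh.HF Y n).map (gpPush P f)).hom x) =
      (EtMV.T (EtCoh.pull f) (EtCore.pullConst f ℤ).inv _ n (x.comp (Ext.mk₀ (gpPush P f)) (add_zero n))).comp
        (Ext.mk₀ ((EtCoh.pullPushAdj f).counit.app (gp P X))) (add_zero n) from rfl).trans ?_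
    rw [EtMV.T_comp_mk₀, Ext.comp_assoc_of_second_deg_zero, Ext.mk₀_comp_mk₀]
    rfl
  refine ⟨fun ξ => ?_, fun j x hx => ?_⟩
  · obtain ⟨j, x, h⟩ := exists_lift_plain (S := gpDatum P D c) hc (gpDatum_cocycle P D c) h₀ n ξ
    exact ⟨j, x, (e (uπ c j) x).trans h⟩
  · obtain ⟨k, a, h⟩ := exists_kill_plain (S := gpDatum P D c) hc (gpDatum_cocycle P D c) h₀ n j x
      ((e (uπ c j) x).symm.trans hx)
    exact ⟨k, a, (e (D.map a) x).trans h⟩

end Groth.Agent.EtLimit
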