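import Groth.Agent.EtLimit.FilColim
import Groth.Prelude.Def_EtLim
import Mathlib

/-! Systems presented by a colimit of inverse images. -/

universe u

open CategoryTheory CategoryTheory.Limits CategoryTheory.Abelian AlgebraicGeometry Opposite

set_option backward.isDefEq.respectTransparency false
set_option backward.isDefEq.respectTransparency.types false

noncomputable section

namespace Groth.Agent.EtLimit

set_option linter.auxLemma false
attribute [local instance 100000] EtCoh.H._proof_1 Groth.Agent.EtMV.hext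
attribute [local instance 200000] Groth.Agent.EtMV.hextAb

theorem ψh_pullTrans {W Y X : Scheme.{u}} (ι : W ⟶ Y) (f : Y ⟶ X) (k : W ⟶ X) (w : ι ≫ f = k) (G : EtCoh.Ab X) :
    ψh ι f k w G ≫ (EtCore.pullCongr w.symm ≪≫ EtCore.pullComp ι f).hom.app G = 𝟙 _ := by
  subst w
  simp only [ψh, EtMV.ψ, EtCore.pullCongr, eqToIso_refl, Iso.trans_hom, Iso.refl_hom, Iso.symm_hom,
    Category.comp_id, Category.id_comp]
  exact Iso.inv_hom_id_app (EtCore.pullComp ι f) G

theorem ψh_comp_trans {W Y X : Scheme.{u}} (ι : W ⟶ Y) (f : Y ⟶ X) (k : W ⟶ X) (w : ι ≫ f = k) {G : EtCoh.Ab X}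
    {H : EtCoh.Ab W} (a : (EtCoh.pull ι).obj ((EtCoh.pull f).obj G) ⟶ H) (b : (EtCoh.pull k).obj G ⟶ H)
    (h : b = (EtCore.pullCongr w.symm ≪≫ EtCore.pullComp ι f).hom.app G ≫ a) :
    a = ψh ι f k w G ≫ b := by
  rw [h, ← Category.assoc, ψh_pullTrans, Category.id_comp]

theorem Hpull_apply {W X : Scheme.{u}} (u : W ⟶ X) [PreservesFiniteLimits (EtCoh.pull u)] (G : EtCoh.Ab X) (n : ℕ)
    (x : EtCoh.H X G n) : EtCore.Hpull u G n x = EtMV.T (EtCoh.pull u) (EtCore.pullConst u ℤ).inv G n x := rfl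

theorem HpullThen_apply {W X : Scheme.{u}} (u : W ⟶ X) [PreservesFiniteLimits (EtCoh.pull u)] (G : EtCoh.Ab X)
    {M : EtCoh.Ab W} (α : (EtCoh.pull u).obj G ⟶ M) (n : ℕ) (x : EtCoh.H X G n) :
    EtLim.HpullThen u G α n x =
      (EtMV.T (EtCoh.pull u) (EtCore.pullConst u ℤ).inv _ n x).comp (Ext.mk₀ α) (add_zero n) := rfl

section Preorder

variable {ι : Type u} [Preorder ι] {Xs : ιᵒᵖ ⥤ Scheme.{u}} {c : Cone Xs} (F : ∀ i : ι, EtCoh.Ab (Xs.obj (op i)))
  (φ : ∀ ⦃i j : ι⦄ (h : i ≤ j), (EtCoh.pull (Xs.map (homOfLE h).op)).obj (F i) ⟶ F j)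
  (hφ : ∀ ⦃i j k : ι⦄ (hij : i ≤ j) (hjk : j ≤ k), φ (hij.trans hjk) =
    (EtLim.pullTrans Xs hij hjk).hom.app (F i) ≫ (EtCoh.pull (Xs.map (homOfLE hjk).op)).map (φ hij) ≫ φ hjk)
  (G : ι ⥤ EtCoh.Ab c.pt) (ψ : ∀ i : ι, (EtCoh.pull (uπ c (op i))).obj (F i) ≅ G.obj i)
  (hψ : ∀ ⦃i j : ι⦄ (hij : i ≤ j), (ψ i).hom ≫ G.map (homOfLE hij) =
    (EtLim.pullTransCone Xs c hij).hom.app (F i) ≫ (EtCoh.pull (uπ c (op j))).map (φ hij) ≫ (ψ j).hom)

include hψ in
theorem colim_compat {i j : ι} (hij : i ≤ j) :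
    (EtCoh.pull (uπ c (op j))).map (φ hij) ≫ (ψ j).hom =
      ψh (uπ c (op j)) (Xs.map (homOfLE hij).op) (uπ c (op i)) (uπ_w c (homOfLE hij).op) (F i) ≫
        (ψ i).hom ≫ G.map (homOfLE hij) :=
  ψh_comp_trans _ _ _ _ _ _ (hψ hij)

/-- the datum of a presented colimit -/
abbrev colimDatum : Datum Xs c where
  F j := F j.unop
  ψ {k j} a := φ (leOfHom a.unop)
  M := colimit G
  ν j := (ψ j.unop).hom ≫ colimit.ι G j.unop
  compat {k j} a := by
    rw [← Category.assoc]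
    refine (congrArg (· ≫ colimit.ι G k.unop) (colim_compat F φ G ψ hψ (leOfHom a.unop))).trans ?_
    rw [Category.assoc, Category.assoc, colimit.w]
    rfl

variable (haff : ∀ {i j : ιᵒᵖ} (f : i ⟶ j), IsAffineHom (Xs.map f))

include hφ in
theorem colimDatum_cocycle : (colimDatum F φ G ψ hψ).Cocycle := ⟨fun l k j b a => by
  refine ψh_comp_trans (Xs.map b) (Xs.map a) (Xs.map (b ≫ a)) (Xs.map_comp b a).symm _ _ ?_
  exact hφ (leOfHom a.unop) (leOfHom b.unop)⟩

variable [Nonempty ι] [IsDirectedOrder ι]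

theorem colimDatum_isColim : (colimDatum F φ G ψ hψ).IsColim := by
  haveI : IsFiltered ι := inferInstance
  haveI : IsFiltered (AsSmall.{u + 1} ι) := IsFiltered.of_equivalence AsSmall.equiv
  let K : AsSmall.{u + 1} ι ⥤ EtCoh.Ab c.pt := AsSmall.equiv.inverse ⋙ G
  let cc : Cocone K := (colimit.cocone G).whisker AsSmall.equiv.inverse
  have hcc : IsColimit cc := (colimit.isColimit G).whiskerEquivalence AsSmall.equiv.symm
  refine ⟨fun T ζ x => ?_, fun j T s hs x => ?_⟩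
  · obtain ⟨W, g, hx, jj, s, hs⟩ := EtColimH.exists_local_rep hcc ζ x
    let i : ι := AsSmall.equiv.inverse.obj jj
    refine ⟨W, g, op i, (ψ i).inv.hom.app (op W) s, hx, ?_⟩
    refine (comp_app_apply _ _ _ _).trans (Eq.trans ?_ hs)
    refine congrArg ((colimit.ι G i).hom.app (op W)) ?_
    rw [← comp_app_apply, Iso.inv_hom_id]
    rfl
  · have hs' : (cc.ι.app (AsSmall.equiv.functor.obj j.unop)).hom.app (op T) ((ψ j.unop).hom.hom.app (op T) s) = 0 :=
      (comp_app_apply _ _ _ _).symm.trans hs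
    obtain ⟨W, g, hx, kk, aa, h0⟩ := EtColimH.exists_local_zero hcc _ hs' x
    let k : ι := AsSmall.equiv.inverse.obj kk
    have hjk : j.unop ≤ k := leOfHom (AsSmall.equiv.inverse.map aa)
    let a : op k ⟶ j := (homOfLE hjk).op
    let Φ := ψh (uπ c (op k)) (Xs.map a) (uπ c j) (uπ_w c a) (F j.unop)
    haveI : IsIso Φ := inferInstanceAs (IsIso ((EtMV.ψ (uπ c (op k)) (Xs.map a) (uπ c j) (uπ_w c a)).hom.app (F j.unop)))
    let s₁ : EtCoh.sect ((EtCoh.pull (uπ c j)).obj (F j.unop)) W :=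
      ((EtCoh.pull (uπ c j)).obj (F j.unop)).obj.map g.op s
    let s' := (inv Φ).hom.app (op W) s₁
    have hs₁ : Φ.hom.app (op W) s' = s₁ := by
      rw [← comp_app_apply, IsIso.inv_hom_id]; rfl
    refine ⟨W, g, op k, a, s', hx, hs₁, ?_⟩
    haveI : IsIso ((ψ k).hom.hom.app (op W)) :=
      inferInstanceAs (IsIso (((evaluation _ _).obj (op W)).map ((sheafToPresheaf _ _).map (ψ k).hom)))
    refine (ConcreteCategory.bijective_of_isIso ((ψ k).hom.hom.app (op W))).1 (Eq.trans ?_ (map_zero _).symm)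
    rw [← comp_app_apply]
    erw [colim_compat F φ G ψ hψ hjk]
    rw [comp_app_apply, comp_app_apply]
    erw [hs₁]
    refine Eq.trans ?_ h0
    exact congrArg ((K.map aa).hom.app (op W)) (NatTrans.naturality_apply (ψ j.unop).hom.hom g.op s)

end Preorder

section Single

variable {I : Type u} [SmallCategory I] {D : I ⥤ Scheme.{u}} (c : Cone D) (i₀ : I) (F₀ : EtCoh.Ab (D.obj i₀))

/-- the system pulled back from one stage -/
abbrev pullDatum : Datum (Over.forget i₀ ⋙ D) (c.whisker (Over.forget i₀)) where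
  F o := (EtCoh.pull (D.map o.hom)).obj F₀
  ψ {k j} a := ψh (D.map a.left) (D.map j.hom) (D.map k.hom) (by rw [← D.map_comp, Over.w a]) F₀
  M := (EtCoh.pull (uπ c i₀)).obj F₀
  ν o := ψh (uπ c o.left) (D.map o.hom) (uπ c i₀) (uπ_w c o.hom) F₀
  compat {k j} a := ψh_assoc (uπ c k.left) (D.map a.left) (D.map j.hom) (uπ c j.left) (D.map k.hom) (uπ c i₀)
    (uπ_w c a.left) _ (uπ_w c j.hom) (uπ_w c k.hom) F₀

theorem pullDatum_cocycle : (pullDatum c i₀ F₀).Cocycle := ⟨fun l k j b a =>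
  ψh_assoc (D.map b.left) (D.map a.left) (D.map j.hom) (D.map (b ≫ a).left) (D.map k.hom) (D.map l.hom)
    (D.map_comp b.left a.left).symm (by rw [← D.map_comp, Over.w a]) (by rw [← D.map_comp, Over.w (b ≫ a)])
    (by rw [← D.map_comp, Over.w b]) F₀⟩

theorem pullDatum_isColim : (pullDatum c i₀ F₀).IsColim := by
  have hiso : ∀ o : Over i₀, IsIso ((pullDatum c i₀ F₀).ν o) := fun o =>
    inferInstanceAs (IsIso ((EtMV.ψ (uπ c o.left) (D.map o.hom) (uπ c i₀) (uπ_w c o.hom)).hom.app F₀))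
  have hbij : ∀ (o : Over i₀) (T : c.pt.Etale), Function.Bijective (((pullDatum c i₀ F₀).ν o).hom.app (op T)) :=
    fun o T => by
      haveI := hiso o
      haveI : IsIso (((pullDatum c i₀ F₀).ν o).hom.app (op T)) :=
        inferInstanceAs (IsIso (((evaluation _ _).obj (op T)).map ((sheafToPresheaf _ _).map ((pullDatum c i₀ F₀).ν o))))
      exact ConcreteCategory.bijective_of_isIso (((pullDatum c i₀ F₀).ν o).hom.app (op T))
  refine ⟨fun T ζ x => ?_, fun j T s hs x => ?_⟩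
  · obtain ⟨s, hs⟩ := (hbij (Over.mk (𝟙 i₀)) T).2 ζ
    refine ⟨T, 𝟙 T, Over.mk (𝟙 i₀), s, ⟨x, rfl⟩, hs.trans ?_⟩
    rw [op_id, CategoryTheory.Functor.map_id]
    rfl
  · have : s = 0 := (hbij j T).1 (hs.trans (map_zero _).symm)
    subst this
    exact ⟨T, 𝟙 T, j, 𝟙 j, 0, ⟨x, rfl⟩, (map_zero _).trans (map_zero _).symm, map_zero _⟩

end Single

end Groth.Agent.EtLimit
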