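import Groth.Agent.EtLimit.BaseChange
import Groth.Agent.LimModel.Main
import Groth.Agent.LimMore.Smooth
import Mathlib

/-! Etale coverings of a limit are refined by etale coverings of a stage. -/

universe u

open CategoryTheory CategoryTheory.Limits AlgebraicGeometry Opposite

set_option backward.isDefEq.respectTransparency false
set_option backward.isDefEq.respectTransparency.types false

noncomputable section

namespace Groth.Agent.EtLimit

open LimDesc EtColimH

variable {I : Type u} [SmallCategory I] [IsCofiltered I] (D : I ⥤ Scheme.{u})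
  [∀ {i j : I} (f : i ⟶ j), IsAffineHom (D.map f)] (c : Cone D) (hc : IsLimit c)
  [∀ i, CompactSpace (D.obj i)] [∀ i, QuasiSeparatedSpace (D.obj i)]
  {i : I} (W : (D.obj i).Etale) (R : Sieve ((EtCoh.bc (c.π.app i)).obj W))

/-- the map to the limit cut out by a stage map is in the sieve -/
def Good {k : I} (a : k ⟶ i) {Z : (D.obj k).Etale} (q : Z ⟶ (EtCoh.bc (D.map a)).obj W) : Prop :=
  ∀ h : (EtCoh.bc (c.π.app k)).obj Z ⟶ (EtCoh.bc (c.π.app i)).obj W,
    h.left ≫ fstE (c.π.app i) W = fstE (c.π.app k) Z ≫ q.left ≫ fstE (D.map a) W → R h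

/-- the points of the limit covered by a stage map -/
def Covers {k : I} (a : k ⟶ i) {Z : (D.obj k).Etale} (q : Z ⟶ (EtCoh.bc (D.map a)).obj W)
    (x : ((EtCoh.bc (c.π.app i)).obj W).left) : Prop :=
  ∃ h : (EtCoh.bc (c.π.app k)).obj Z ⟶ (EtCoh.bc (c.π.app i)).obj W,
    h.left ≫ fstE (c.π.app i) W = fstE (c.π.app k) Z ≫ q.left ≫ fstE (D.map a) W ∧ x ∈ Set.range h.left

omit [IsCofiltered I] [∀ {i j : I} (f : i ⟶ j), IsAffineHom (D.map f)] [∀ i, CompactSpace (D.obj i)]
  [∀ i, QuasiSeparatedSpace (D.obj i)] in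
/-- base change of a stage map along a transition -/
theorem exists_rebase {k l : I} {a : k ⟶ i} {a' : l ⟶ i} (b : l ⟶ k) (hb : b ≫ a = a') {Z : (D.obj k).Etale}
    (q : Z ⟶ (EtCoh.bc (D.map a)).obj W) :
    ∃ q' : (EtCoh.bc (D.map b)).obj Z ⟶ (EtCoh.bc (D.map a')).obj W,
      q'.left ≫ fstE (D.map a') W = fstE (D.map b) Z ≫ q.left ≫ fstE (D.map a) W ∧
      (Good D c W R a q → Good D c W R a' q') ∧
      (∀ x, Covers D c W a q x → Covers D c W a' q' x) := by
  subst hb
  have w : (fstE (D.map b) Z ≫ q.left ≫ fstE (D.map a) W) ≫ W.hom =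
      ((EtCoh.bc (D.map b)).obj Z).hom ≫ D.map (b ≫ a) := by
    rw [Category.assoc, Category.assoc, pullback.condition, ← Category.assoc q.left, left_snd, D.map_comp,
      pullback.condition_assoc]
    rfl
  let q' := hm (D.map (b ≫ a)) W ((EtCoh.bc (D.map b)).obj Z) _ w
  have hq' : q'.left ≫ fstE (D.map (b ≫ a)) W = fstE (D.map b) Z ≫ q.left ≫ fstE (D.map a) W := hm_fst _ _ _ _ _
  let T' := (EtCoh.bc (c.π.app l)).obj ((EtCoh.bc (D.map b)).obj Z)
  let T := (EtCoh.bc (c.π.app k)).obj Z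
  have w1 : (fstE (c.π.app l) ((EtCoh.bc (D.map b)).obj Z) ≫ fstE (D.map b) Z) ≫ Z.hom = T'.hom ≫ c.π.app k := by
    rw [Category.assoc, pullback.condition, ← c.w b, ← Category.assoc, ← Category.assoc]
    exact congrArg (· ≫ D.map b) pullback.condition
  let d : T' ⟶ T := hm (c.π.app k) Z T' _ w1
  have hd : d.left ≫ fstE (c.π.app k) Z =
      fstE (c.π.app l) ((EtCoh.bc (D.map b)).obj Z) ≫ fstE (D.map b) Z := hm_fst _ _ _ _ _
  have w2 : fstE (c.π.app k) Z ≫ Z.hom = (T.hom ≫ c.π.app l) ≫ D.map b := by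
    rw [Category.assoc, c.w]; exact pullback.condition
  let e : T ⟶ T' := hm (c.π.app l) ((EtCoh.bc (D.map b)).obj Z) T (pullback.lift (fstE (c.π.app k) Z) (T.hom ≫ c.π.app l) w2)
    (pullback.lift_snd _ _ _)
  have he : e.left ≫ fstE (c.π.app l) ((EtCoh.bc (D.map b)).obj Z) ≫ fstE (D.map b) Z = fstE (c.π.app k) Z := by
    rw [← Category.assoc, hm_fst]; exact pullback.lift_fst _ _ _
  refine ⟨q', hq', fun hG h hh => ?_, ?_⟩
  · have w3 : (fstE (c.π.app k) Z ≫ q.left ≫ fstE (D.map a) W) ≫ W.hom = T.hom ≫ c.π.app i := by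
      rw [Category.assoc, Category.assoc, pullback.condition, ← Category.assoc q.left, left_snd, ← Category.assoc,
        pullback.condition, Category.assoc, c.w a]
      rfl
    let h₀ : T ⟶ (EtCoh.bc (c.π.app i)).obj W := hm _ _ _ _ w3
    have : h = d ≫ h₀ := bc_hom_ext _ _ _ (by
      rw [hh, hq', MorphismProperty.Comma.comp_left, Category.assoc, hm_fst, ← Category.assoc d.left, hd,
        Category.assoc])
    rw [this]
    exact R.downward_closed (hG h₀ (hm_fst _ _ _ _ _)) d
  · rintro x ⟨h, hh, v, rfl⟩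
    refine ⟨d ≫ h, ?_, e.left v, ?_⟩
    · rw [hq', MorphismProperty.Comma.comp_left, Category.assoc, hh, ← Category.assoc d.left, hd, Category.assoc]
    · have : e ≫ d ≫ h = h := bc_hom_ext _ _ _ (by
        show (e.left ≫ d.left ≫ h.left) ≫ fstE (c.π.app i) W = _
        rw [Category.assoc, Category.assoc, hh, ← Category.assoc d.left, hd, Category.assoc, reassoc_of% he])
      exact congrArg (fun p : T ⟶ _ => p.left v) this

include hc in
theorem exists_local_good' (hW : Qcqs W) (x : ((EtCoh.bc (c.π.app i)).obj W).left)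
    (hx : ∃ (T : c.pt.Etale) (h₀ : T ⟶ (EtCoh.bc (c.π.app i)).obj W), R h₀ ∧ x ∈ Set.range h₀.left) :
    ∃ (k : I) (a : k ⟶ i) (Z : (D.obj k).Etale) (q : Z ⟶ (EtCoh.bc (D.map a)).obj W),
      Qcqs Z ∧ Good D c W R a q ∧ Covers D c W a q x := by
  let w₀ : W.left ⟶ D.obj i := W.hom
  haveI : Etale w₀ := W.prop
  haveI : CompactSpace W.left := hW.1
  haveI : QuasiSeparatedSpace W.left := hW.2
  haveI := isAffineHom_π_app D c hc i
  let WX := (EtCoh.bc (c.π.app i)).obj W
  haveI hqW : Qcqs WX := qcqs_bc_of_qcqs _ hW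
  haveI : CompactSpace WX.left := hqW.1
  haveI : QuasiSeparatedSpace WX.left := hqW.2
  obtain ⟨T, h₀, hh₀, t, ht⟩ := hx
  obtain ⟨_, ⟨O₀, hO, rfl⟩, htO, -⟩ := T.left.isBasis_affineOpens.exists_subset_of_mem_open (Set.mem_univ t) isOpen_univ
  let O : T.left.Opens := O₀
  haveI := T.prop
  haveI := EtSect.etale_left h₀
  haveI : IsAffine O.toScheme := hO
  let V : c.pt.Etale := Scheme.Etale.mk (O.ι ≫ T.hom)
  let jV : V ⟶ T := MorphismProperty.Over.homMk O.ι rfl
  let b : O.toScheme ⟶ WX.left := O.ι ≫ h₀.left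
  haveI : Etale b := inferInstance
  haveI : LocallyOfFinitePresentation b := inferInstance
  haveI : QuasiCompact b := quasiCompact_of_compactSpace b
  haveI : QuasiSeparated b := QuasiSeparated.of_quasiSeparatedSpace b
  let hY : IsPullback (fstE (c.π.app i) W) (pullback.snd W.hom (c.π.app i)) w₀ (c.π.app i) := .of_hasPullback _ _
  haveI : ∀ l, CompactSpace ((tower D w₀).obj l) := fun l => compactSpace_stage D w₀ l
  haveI : ∀ l, QuasiSeparatedSpace ((tower D w₀).obj l) := fun l => quasiSeparatedSpace_stage D w₀ l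
  let c₁ := towerCone D w₀ c hY
  have hc₁ : IsLimit c₁ := isLimitTowerCone D w₀ c hY hc
  obtain ⟨l, Xl, fl, g, hfl, hflc, hflq, sq⟩ := LimModel.exists_model (tower D w₀) c₁ hc₁ (b : O.toScheme ⟶ c₁.pt)
  haveI := hfl
  haveI := hflc
  haveI := hflq
  haveI : CompactSpace Xl := QuasiCompact.compactSpace_of_compactSpace fl
  obtain ⟨m, hm'⟩ := LimMore.exists_etale (tower D w₀) c₁ hc₁ fl (𝟙 ((tower D w₀).obj l))
    (g := 𝟙 c₁.pt) (qY := c₁.π.app l) (IsPullback.id_vert _) (f := (b : O.toScheme ⟶ c₁.pt)) (qX := g) sq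
  haveI := hm'
  let P := stage (tower D w₀) (fl ≫ 𝟙 _) m
  let ts : stage (tower D w₀) (𝟙 ((tower D w₀).obj l)) m ⟶ stage D w₀ m.left := toStage (tower D w₀) _ m
  haveI : IsIso ts := inferInstanceAs (IsIso (pullback.snd _ _))
  let qm : P ⟶ stage D w₀ m.left := stageMap (tower D w₀) (𝟙 _) fl m ≫ ts
  have hqm : qm ≫ trans D w₀ m.hom = toBase (tower D w₀) (fl ≫ 𝟙 _) m ≫ fl := by
    have h1 : toBase (tower D w₀) (fl ≫ 𝟙 _) m ≫ (fl ≫ 𝟙 _) =
        toStage (tower D w₀) (fl ≫ 𝟙 _) m ≫ (tower D w₀).map m.hom := pullback.condition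
    rw [Category.comp_id] at h1
    refine Eq.trans ?_ h1.symm
    show (stageMap (tower D w₀) (𝟙 _) fl m ≫ toStage (tower D w₀) (𝟙 _) m) ≫ trans D w₀ m.hom = _
    rw [stageMap_toStage]
    rfl
  haveI : Etale (toStage D w₀ m.left) := inferInstanceAs (Etale (pullback.snd w₀ (D.map m.left.hom)))
  haveI : Etale qm := inferInstance
  let Z : (D.obj m.left.left).Etale := Scheme.Etale.mk (qm ≫ toStage D w₀ m.left)
  let q : Z ⟶ (EtCoh.bc (D.map m.left.hom)).obj W := MorphismProperty.Over.homMk qm rfl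
  have hqfst : q.left ≫ fstE (D.map m.left.hom) W = toBase (tower D w₀) (fl ≫ 𝟙 _) m ≫ fl ≫ toBase D w₀ l := by
    have h2 := hqm =≫ toBase D w₀ l
    rw [Category.assoc, trans_toBase, Category.assoc] at h2
    exact h2
  refine ⟨m.left.left, m.left.hom, Z, q, ?_, fun h hh => ?_, ?_⟩
  · haveI : CompactSpace P := compactSpace_stage (tower D w₀) _ m
    haveI : QuasiSeparatedSpace Xl := quasiSeparatedSpace_of_quasiSeparated fl
    haveI : QuasiSeparatedSpace P := quasiSeparatedSpace_stage (tower D w₀) (fl ≫ 𝟙 _) m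
    exact ⟨inferInstanceAs (CompactSpace P), inferInstanceAs (QuasiSeparatedSpace P)⟩
  · let g₁ : ((EtCoh.bc (c.π.app m.left.left)).obj Z).left ⟶ Xl :=
      fstE (c.π.app m.left.left) Z ≫ toBase (tower D w₀) (fl ≫ 𝟙 _) m
    have hcond : g₁ ≫ fl = h.left ≫ c₁.π.app l := by
      refine pullback.hom_ext ?_ ?_
      · show _ ≫ toBase D w₀ l = _ ≫ toBase D w₀ l
        rw [Category.assoc h.left]
        erw [proj_toBase D w₀ c hY]
        rw [hh, hqfst]
        simp only [g₁, Category.assoc]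
      · show _ ≫ toStage D w₀ l = _ ≫ toStage D w₀ l
        rw [Category.assoc h.left]
        erw [proj_toStage D w₀ c hY]
        erw [← Category.assoc h.left, left_snd, ← c.w m.hom.left]
        have h3 : (qm ≫ trans D w₀ m.hom) ≫ toStage D w₀ l = (qm ≫ toStage D w₀ m.left) ≫ D.map m.hom.left := by
          rw [Category.assoc, trans_toStage]
          simp only [qm, Category.assoc]
        rw [hqm] at h3
        rw [Category.assoc, Category.assoc, ← Category.assoc _ fl, h3, ← Category.assoc, ← Category.assoc]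
        exact congrArg (· ≫ D.map m.hom.left) pullback.condition
    let e := sq.lift g₁ h.left hcond
    have he : e ≫ b = h.left := sq.lift_snd _ _ _
    have we : e ≫ V.hom = ((EtCoh.bc (c.π.app m.left.left)).obj Z).hom := by
      show e ≫ O.ι ≫ T.hom = _
      rw [← MorphismProperty.Over.w h₀, ← Category.assoc O.ι, ← Category.assoc e]
      erw [he]
      exact MorphismProperty.Over.w h
    let e' : (EtCoh.bc (c.π.app m.left.left)).obj Z ⟶ V := MorphismProperty.Over.homMk e we
    have : h = (e' ≫ jV) ≫ h₀ := MorphismProperty.Over.Hom.ext (by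
      show h.left = (e ≫ O.ι) ≫ h₀.left
      exact he.symm.trans (Category.assoc _ _ _).symm)
    rw [this]
    exact R.downward_closed hh₀ _
  · let p : O.toScheme ⟶ P := pullback.lift g (b ≫ proj D w₀ c hY m.left) (by
      rw [Category.comp_id, Category.assoc, sq.w]
      exact congrArg (b ≫ ·) (c₁.w m.hom).symm)
    have hp : p ≫ qm = b ≫ proj D w₀ c hY m.left := by
      show p ≫ stageMap (tower D w₀) (𝟙 _) fl m ≫ toStage (tower D w₀) (𝟙 _) m = _
      rw [stageMap_toStage]
      exact pullback.lift_snd _ _ _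
    have wp : p ≫ Z.hom = (b ≫ WX.hom) ≫ c.π.app m.left.left := by
      show p ≫ qm ≫ toStage D w₀ m.left = _
      rw [← Category.assoc, hp, Category.assoc, proj_toStage, Category.assoc]
      rfl
    let v : O.toScheme ⟶ ((EtCoh.bc (c.π.app m.left.left)).obj Z).left := pullback.lift p (b ≫ WX.hom) wp
    have wh : (fstE (c.π.app m.left.left) Z ≫ q.left ≫ fstE (D.map m.left.hom) W) ≫ W.hom =
        ((EtCoh.bc (c.π.app m.left.left)).obj Z).hom ≫ c.π.app i := by
      rw [Category.assoc, Category.assoc, pullback.condition, ← Category.assoc q.left, left_snd, ← Category.assoc,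
        pullback.condition, Category.assoc, c.w]
      rfl
    refine ⟨hm _ _ _ _ wh, hm_fst _ _ _ _ _, v (⟨t, htO⟩ : O), ?_⟩
    have hv : v ≫ (hm (c.π.app i) W _ _ wh).left = b := by
      refine pullback.hom_ext ?_ ?_
      · erw [Category.assoc, hm_fst, pullback.lift_fst_assoc, ← Category.assoc p]
        erw [hp, Category.assoc]
        erw [proj_toBase D w₀ c hY]
      · erw [Category.assoc, left_snd, pullback.lift_snd]
        rfl
    rw [← Scheme.Hom.comp_apply, hv]
    exact ht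

include hc in
theorem exists_local_good (hW : Qcqs W) (hR : R ∈ Scheme.smallEtaleTopology c.pt ((EtCoh.bc (c.π.app i)).obj W))
    (x : ((EtCoh.bc (c.π.app i)).obj W).left) :
    ∃ (k : I) (a : k ⟶ i) (Z : (D.obj k).Etale) (q : Z ⟶ (EtCoh.bc (D.map a)).obj W),
      Qcqs Z ∧ Good D c W R a q ∧ Covers D c W a q x := by
  exact exists_local_good' D c hc W R hW x (exists_of_mem hR x)

omit [IsCofiltered I] [∀ {i j : I} (f : i ⟶ j), IsAffineHom (D.map f)] [∀ i, CompactSpace (D.obj i)]
  [∀ i, QuasiSeparatedSpace (D.obj i)] in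
theorem exists_rebase' {k l : I} {a : k ⟶ i} {a' : l ⟶ i} (b : l ⟶ k) (hb : b ≫ a = a') {Z : (D.obj k).Etale}
    (q : Z ⟶ (EtCoh.bc (D.map a)).obj W) :
    ∃ q' : (EtCoh.bc (D.map b)).obj Z ⟶ (EtCoh.bc (D.map a')).obj W,
      q'.left ≫ fstE (D.map a') W = fstE (D.map b) Z ≫ q.left ≫ fstE (D.map a) W ∧
      (∀ x, Covers D c W a q x → Covers D c W a' q' x) := by
  obtain ⟨q', h₁, -, h₃⟩ := exists_rebase D c W ⊤ b hb q
  exact ⟨q', h₁, h₃⟩

/-- a property of stage maps stable under rebasing -/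
def Stable (P : ∀ (k : I) (a : k ⟶ i) (Z : (D.obj k).Etale), (Z ⟶ (EtCoh.bc (D.map a)).obj W) → Prop) : Prop :=
  ∀ (k l : I) (a : k ⟶ i) (b : l ⟶ k) (Z : (D.obj k).Etale) (q : Z ⟶ (EtCoh.bc (D.map a)).obj W)
    (q' : (EtCoh.bc (D.map b)).obj Z ⟶ (EtCoh.bc (D.map (b ≫ a))).obj W),
    q'.left ≫ fstE (D.map (b ≫ a)) W = fstE (D.map b) Z ≫ q.left ≫ fstE (D.map a) W →
    P k a Z q → P l (b ≫ a) _ q'

include hc in
/-- a pointwise covering of the limit object by stage maps is refined by a finite covering of a stage -/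
theorem exists_finite_stage (hW : Qcqs W)
    (P : ∀ (k : I) (a : k ⟶ i) (Z : (D.obj k).Etale), (Z ⟶ (EtCoh.bc (D.map a)).obj W) → Prop)
    (hP : Stable D W P)
    (hcov : ∀ x, ∃ (k : I) (a : k ⟶ i) (Z : (D.obj k).Etale) (q : Z ⟶ (EtCoh.bc (D.map a)).obj W),
      Qcqs Z ∧ P k a Z q ∧ Covers D c W a q x) :
    ∃ (k : I) (a : k ⟶ i) (ι : Type) (_ : Fintype ι) (Z : ι → (D.obj k).Etale)
      (q : ∀ t, Z t ⟶ (EtCoh.bc (D.map a)).obj W), (∀ t, Qcqs (Z t)) ∧ (∀ t, P k a (Z t) (q t)) ∧
      ∀ w : ((EtCoh.bc (D.map a)).obj W).left, ∃ t, w ∈ Set.range (q t).left := by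
  classical
  let w₀ : W.left ⟶ D.obj i := W.hom
  haveI : CompactSpace W.left := hW.1
  haveI : QuasiSeparatedSpace W.left := hW.2
  haveI := isAffineHom_π_app D c hc i
  haveI : CompactSpace ((EtCoh.bc (c.π.app i)).obj W).left := (qcqs_bc_of_qcqs _ hW).1
  choose k a Z q hZ hG hC using hcov
  choose h hh hx using hC
  obtain ⟨S, hS⟩ := isCompact_univ.elim_finite_subcover (fun x => Set.range (h x).left)
    (fun x => by haveI := EtSect.etale_left (h x); exact (h x).left.isOpenMap.isOpen_range)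
    (fun x _ => Set.mem_iUnion.mpr ⟨x, hx x⟩)
  obtain ⟨l, hl⟩ := IsCofiltered.inf_objs_exists (insert (Over.mk (𝟙 i)) (S.image fun x => Over.mk (a x)))
  have hb : ∀ x : S, ∃ b : l ⟶ Over.mk (a x.1), True := fun x =>
    ⟨(hl (Finset.mem_insert_of_mem (Finset.mem_image_of_mem _ x.2))).some, trivial⟩
  choose b _ using hb
  choose q' hq' hC' using fun x : S => exists_rebase' D c W (b x).left (Over.w (b x)) (q x.1)
  have hP' : ∀ {k l : I} {a : k ⟶ i} {a' : l ⟶ i} (b : l ⟶ k) (_ : b ≫ a = a') {Z : (D.obj k).Etale}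
      {q : Z ⟶ (EtCoh.bc (D.map a)).obj W} (q' : (EtCoh.bc (D.map b)).obj Z ⟶ (EtCoh.bc (D.map a')).obj W),
      q'.left ≫ fstE (D.map a') W = fstE (D.map b) Z ≫ q.left ≫ fstE (D.map a) W → P k a Z q → P l a' _ q' := by
    intro k l a a' b hb Z q q'
    subst hb
    exact hP k l a b Z q q'
  let O : (stage D w₀ l).Opens := ⟨⋃ x : S, Set.range (q' x).left, isOpen_iUnion fun x => by
    haveI := EtSect.etale_left (q' x); exact (q' x).left.isOpenMap.isOpen_range⟩
  let hY : IsPullback (fstE (c.π.app i) W) (pullback.snd W.hom (c.π.app i)) w₀ (c.π.app i) := .of_hasPullback _ _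
  haveI : ∀ j, CompactSpace ((tower D w₀).obj j) := fun j => compactSpace_stage D w₀ j
  have hO : (towerCone D w₀ c hY).π.app l ⁻¹ᵁ O = ⊤ := top_le_iff.mp fun y _ => by
    obtain ⟨x, hxS, v, hv⟩ := Set.mem_iUnion₂.1 (hS (Set.mem_univ y))
    obtain ⟨h', hh', v', hv'⟩ := hC' ⟨x, hxS⟩ y ⟨h x, hh x, v, hv⟩
    refine Set.mem_iUnion.2 ⟨⟨x, hxS⟩, fstE (c.π.app l.left) _ v', ?_⟩
    show _ = proj D w₀ c hY l y
    rw [← hv', ← Scheme.Hom.comp_apply, ← Scheme.Hom.comp_apply]
    refine congrArg (fun g : _ ⟶ stage D w₀ l => g v') ?_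
    refine pullback.hom_ext (f := w₀) (g := D.map l.hom) ?_ ?_
    · erw [Category.assoc, Category.assoc, proj_toBase]
      exact hh'.symm
    · erw [Category.assoc, Category.assoc, left_snd, proj_toStage]
      erw [← Category.assoc h'.left, left_snd]
      exact pullback.condition
  obtain ⟨l', f, hf⟩ := exists_map_eq_top (tower D w₀) (towerCone D w₀ c hY) (isLimitTowerCone D w₀ c hY hc) O hO
  choose q'' hq'' hC'' using fun x : S => exists_rebase' D c W f.left (Over.w f) (q' x)
  refine ⟨l'.left, l'.hom, Fin S.card, inferInstance, _, fun t => q'' (S.equivFin.symm t), fun t => ?_,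
    fun t => hP' f.left (Over.w f) _ (hq'' _) (hP' _ (Over.w (b _)) _ (hq' _) (hG _)), fun w => ?_⟩
  · exact qcqs_bc_of_qcqs _ (qcqs_bc_of_qcqs _ (hZ _))
  · have hw : w ∈ (tower D w₀).map f ⁻¹ᵁ O := hf.ge trivial
    obtain ⟨x, z, hz⟩ := Set.mem_iUnion.1 hw
    obtain ⟨p, hp₁, hp₂⟩ := Scheme.Pullback.exists_preimage_pullback (f := (q' x).left) (g := trans D w₀ f) z w hz
    refine ⟨S.equivFin x, ?_⟩
    have key : ∀ x' : S, x' = x → w ∈ Set.range (q'' x').left := by
      rintro x' rfl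
      let o := (EtCoh.bc (D.map (b x').left)).obj (Z x'.1)
      let m : pullback (q' x').left (trans D w₀ f) ⟶ pullback o.hom (D.map f.left) :=
        pullback.lift (pullback.fst (q' x').left (trans D w₀ f)) (pullback.snd (q' x').left (trans D w₀ f) ≫ toStage D w₀ l') (by
          have h1 := pullback.condition (f := (q' x').left) (g := trans D w₀ f) =≫ toStage D w₀ l
          rw [Category.assoc, Category.assoc, trans_toStage] at h1
          erw [left_snd] at h1
          rw [h1, Category.assoc])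
      refine ⟨m p, ?_⟩
      have hm2 : m ≫ (q'' x').left = pullback.snd (q' x').left (trans D w₀ f) := by
        refine pullback.hom_ext ?_ ?_
        · erw [Category.assoc, hq'', pullback.lift_fst_assoc]
          have h1 := pullback.condition (f := (q' x').left) (g := trans D w₀ f) =≫ toBase D w₀ l
          rw [Category.assoc, Category.assoc, trans_toBase] at h1
          exact h1
        · erw [Category.assoc, left_snd]
          exact pullback.lift_snd _ _ _
      exact ((Scheme.Hom.comp_apply m (q'' x').left p).symm.trans (congrArg (fun g : _ ⟶ stage D w₀ l' => g p) hm2)).trans hp₂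
    exact key _ (Equiv.symm_apply_apply _ _)

include hc in
/-- a covering of the limit object is refined by a family from a stage, jointly surjective there -/
theorem exists_refine_stage (hW : Qcqs W) (hR : R ∈ Scheme.smallEtaleTopology c.pt ((EtCoh.bc (c.π.app i)).obj W)) :
    ∃ (k : I) (a : k ⟶ i) (ι : Type) (_ : Fintype ι) (Z : ι → (D.obj k).Etale)
      (q : ∀ t, Z t ⟶ (EtCoh.bc (D.map a)).obj W), (∀ t, Qcqs (Z t)) ∧ (∀ t, Good D c W R a (q t)) ∧
      ∀ w : ((EtCoh.bc (D.map a)).obj W).left, ∃ t, w ∈ Set.range (q t).left := by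
  obtain ⟨k, a, ι, hι, Z, q, hZ, hq, hs⟩ := exists_finite_stage D c hc W hW (fun k a Z q => Good D c W R a q)
    (fun k l a b Z q q' hq' hG => by
      obtain ⟨q₁, h₁, h₂, -⟩ := exists_rebase D c W R b rfl q
      rw [show q' = q₁ from bc_hom_ext _ _ _ (hq'.trans h₁.symm)]
      exact h₂ hG)
    (exists_local_good D c hc W R hW hR)
  exact ⟨k, a, ι, hι, Z, q, hZ, hq, hs⟩

end Groth.Agent.EtLimit
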