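import Groth.Agent.EtLimit.Zero
import Mathlib

/-! Systems whose limit sheaf is the colimit of the inverse images. -/

universe u

open CategoryTheory CategoryTheory.Limits CategoryTheory.Abelian AlgebraicGeometry Opposite

set_option backward.isDefEq.respectTransparency false
set_option backward.isDefEq.respectTransparency.types false

noncomputable section

namespace Groth.Agent.EtLimit

set_option linter.auxLemma false
attribute [local instance 100000] EtCoh.H._proof_1 Groth.Agent.EtMV.hext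
attribute [local instance 200000] Groth.Agent.EtMV.hextAb

open EtMV (r r_natural)

variable {I : Type u} [SmallCategory I] {D : I ⥤ Scheme.{u}} {c : Cone D} (S : Datum D c)

/-- the limit sheaf is locally the colimit of the inverse images -/
structure Datum.IsColim : Prop where
  rep : ∀ (T : c.pt.Etale) (ζ : EtCoh.sect S.M T) (x : T.left), ∃ (T' : c.pt.Etale) (g : T' ⟶ T) (j : I)
    (s : EtCoh.sect ((EtCoh.pull (uπ c j)).obj (S.F j)) T'), x ∈ Set.range g.left ∧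
      (S.ν j).hom.app (op T') s = S.M.obj.map g.op ζ
  kill : ∀ (j : I) (T : c.pt.Etale) (s : EtCoh.sect ((EtCoh.pull (uπ c j)).obj (S.F j)) T),
    (S.ν j).hom.app (op T) s = 0 → ∀ x : T.left, ∃ (T' : c.pt.Etale) (g : T' ⟶ T) (k : I) (a : k ⟶ j)
      (s' : EtCoh.sect ((EtCoh.pull (uπ c k)).obj ((EtCoh.pull (D.map a)).obj (S.F j))) T'), x ∈ Set.range g.left ∧
        (ψh (uπ c k) (D.map a) (uπ c j) (uπ_w c a) (S.F j)).hom.app (op T') s' =
            ((EtCoh.pull (uπ c j)).obj (S.F j)).obj.map g.op s ∧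
          ((EtCoh.pull (uπ c k)).map (S.ψ a)).hom.app (op T') s' = 0

variable {S}

/-- the composite to the base change of the first stage -/
abbrev toStage₁ {k j : I} (a : k ⟶ j) (W : (D.obj j).Etale) :
    (EtCoh.bc (uπ c k)).obj ((EtCoh.bc (D.map a)).obj W) ⟶ (EtCoh.bc (uπ c j)).obj W :=
  hm _ _ _ (fstE (uπ c k) _ ≫ fstE (D.map a) W)
    ((w_comp (uπ c k) (fstE (D.map a) W) (D.map a) pullback.condition).trans (congrArg _ (uπ_w c a)))

theorem exists_lift₁ {k j : I} (a : k ⟶ j) {W : (D.obj j).Etale} {T : c.pt.Etale}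
    (g : T ⟶ (EtCoh.bc (uπ c j)).obj W) :
    ∃ δ : T ⟶ (EtCoh.bc (uπ c k)).obj ((EtCoh.bc (D.map a)).obj W), δ ≫ toStage₁ a W = g ∧
      δ.left ≫ fstE (uπ c k) _ ≫ fstE (D.map a) W = g.left ≫ fstE (uπ c j) W := by
  have w : (g.left ≫ fstE (uπ c j) W) ≫ W.hom = (T.hom ≫ uπ c k) ≫ D.map a := by
    rw [left_cond, Category.assoc, uπ_w]
  let δ : T ⟶ (EtCoh.bc (uπ c k)).obj ((EtCoh.bc (D.map a)).obj W) :=
    hm _ _ _ (pullback.lift _ _ w) (pullback.lift_snd _ _ _)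
  have h : δ.left ≫ fstE (uπ c k) _ ≫ fstE (D.map a) W = g.left ≫ fstE (uπ c j) W := by
    rw [← Category.assoc, hm_fst]; exact pullback.lift_fst _ _ _
  exact ⟨δ, bc_hom_ext _ _ _ (by rw [MorphismProperty.Comma.comp_left, Category.assoc, hm_fst, h]), h⟩

/-- a point is covered once its image on a stage is in the range -/
theorem covers_of_point {k j : I} (a : k ⟶ j) {W : (D.obj j).Etale} {Z : (D.obj k).Etale}
    (q : Z ⟶ (EtCoh.bc (D.map a)).obj W) {T : c.pt.Etale} (g : T ⟶ (EtCoh.bc (uπ c j)).obj W)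
    (δ : T ⟶ (EtCoh.bc (uπ c k)).obj ((EtCoh.bc (D.map a)).obj W)) (hδ : δ ≫ toStage₁ a W = g) (y : T.left)
    (hy : fstE (uπ c k) _ (δ.left y) ∈ Set.range q.left) : Covers D c W a q (g.left y) := by
  obtain ⟨z, hz⟩ := hy
  obtain ⟨p₀, hp₁, -⟩ := Scheme.Pullback.exists_preimage_pullback
    (f := fstE (uπ c k) ((EtCoh.bc (D.map a)).obj W)) (g := q.left) (δ.left y) z hz.symm
  have hP := EtCoh.isPullback_bc_map (uπ c k) q
  refine ⟨(EtCoh.bc (uπ c k)).map q ≫ toStage₁ a W, ?_, hP.isoPullback.inv p₀, ?_⟩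
  · rw [MorphismProperty.Comma.comp_left, Category.assoc]
    erw [hm_fst]
    rw [reassoc_of% bc_map_fst]
  · rw [← hδ, MorphismProperty.Comma.comp_left, MorphismProperty.Comma.comp_left, Scheme.Hom.comp_apply,
      Scheme.Hom.comp_apply]
    exact congrArg _ (by rw [← Scheme.Hom.comp_apply]; erw [hP.isoPullback_inv_fst]; exact hp₁)

theorem germI_of_isColim (hM : S.IsColim) : S.GermI := ⟨fun j W _ s hs x => by
  obtain ⟨T, g, k, a, s', ⟨y, rfl⟩, hs', h0⟩ := hM.kill j _ (r (uπ c j) (𝟙 _) (S.F j) s) hs x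
  obtain ⟨δ, hδ, hδ'⟩ := exists_lift₁ a g
  let z : EtCoh.sect ((EtCoh.pull (uπ c k)).obj ((EtCoh.pull (D.map a)).obj (S.F j))) T :=
    r (uπ c k) δ _ (r (D.map a) (𝟙 _) (S.F j) s)
  have hz : (ψh (uπ c k) (D.map a) (uπ c j) (uπ_w c a) (S.F j)).hom.app (op T) z =
      (ψh (uπ c k) (D.map a) (uπ c j) (uπ_w c a) (S.F j)).hom.app (op T) s' := by
    rw [hs', r_pre, Category.comp_id, ← ψh_eq]
    exact r_comp' (uπ c k) (D.map a) (uπ c j) (uπ_w c a) (𝟙 _) δ g (by rw [id_left_comp]; exact hδ') (S.F j) s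
  haveI : IsIso (ψh (uπ c k) (D.map a) (uπ c j) (uπ_w c a) (S.F j)) :=
    inferInstanceAs (IsIso ((EtMV.ψ (uπ c k) (D.map a) (uπ c j) (uπ_w c a)).hom.app (S.F j)))
  haveI : IsIso ((ψh (uπ c k) (D.map a) (uπ c j) (uπ_w c a) (S.F j)).hom.app (op T)) :=
    inferInstanceAs (IsIso (((evaluation _ _).obj (op T)).map
      ((sheafToPresheaf _ _).map (ψh (uπ c k) (D.map a) (uπ c j) (uπ_w c a) (S.F j)))))
  have hz' : z = s' :=
    (ConcreteCategory.bijective_of_isIso ((ψh (uπ c k) (D.map a) (uπ c j) (uπ_w c a) (S.F j)).hom.app (op T))).1 hz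
  have h1 : r (uπ c k) δ (S.F k) (S.ts a (𝟙 _) s) = 0 := by
    rw [Datum.ts, ← r_natural]
    exact (congrArg _ hz').trans h0
  obtain ⟨O, g₁, hy, hO⟩ := exists_kill_r (uπ c k) (S.F k) δ _ h1 y
  obtain ⟨w, hw⟩ := hy
  obtain ⟨Z, q₀, hZ, w', hw'⟩ := EtColimH.exists_affine_nhd O w
  haveI := hZ
  refine ⟨k, a, Z, q₀ ≫ g₁, EtColimH.qcqs_of_isAffine _, ?_, covers_of_point a _ g δ hδ y ⟨w', ?_⟩⟩
  · rw [ts_pre, Category.comp_id] at hO
    rw [← ts_pre, hO, map_zero]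
  · rw [MorphismProperty.Comma.comp_left, Scheme.Hom.comp_apply, hw', hw]⟩

variable [∀ {i j : I} (f : i ⟶ j), IsAffineHom (D.map f)] [∀ i, CompactSpace (D.obj i)]
  [∀ i, QuasiSeparatedSpace (D.obj i)] [IsCofiltered I] (hc : IsLimit c)

include hc in
theorem germS_of_isColim (hψ : S.Cocycle) (hM : S.IsColim) : S.GermS := ⟨fun j W hW ζ x => by
  obtain ⟨T', g, j', s₀, ⟨y', rfl⟩, hs₀⟩ := hM.rep _ ζ x
  obtain ⟨T, g₁, O, δ₀, t, ⟨y, rfl⟩, ht⟩ := exists_r_local (uπ c j') (S.F j') s₀ y'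
  let l := IsCofiltered.min j j'
  let b : l ⟶ j := IsCofiltered.minToLeft j j'
  let b' : l ⟶ j' := IsCofiltered.minToRight j j'
  obtain ⟨δ₁, hδ₁, hδ₁'⟩ := exists_lift₁ b (g₁ ≫ g)
  obtain ⟨δ₂, hδ₂, hδ₂'⟩ := exists_lift₁ b' δ₀
  let o₁ := (EtCoh.bc (D.map b)).obj W
  let o₂ := (EtCoh.bc (D.map b')).obj O
  have hgl : (δ₁.left ≫ fstE (uπ c l) o₁) ≫ o₁.hom = (δ₂.left ≫ fstE (uπ c l) o₂) ≫ o₂.hom :=
    (left_cond _ δ₁).trans (left_cond _ δ₂).symm
  haveI := o₁.prop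
  haveI := o₂.prop
  let P : (D.obj l).Etale := Scheme.Etale.mk (pullback.fst o₁.hom o₂.hom ≫ o₁.hom)
  let p₁ : P ⟶ o₁ := MorphismProperty.Over.homMk (pullback.fst o₁.hom o₂.hom) rfl
  let p₂ : P ⟶ o₂ := MorphismProperty.Over.homMk (pullback.snd o₁.hom o₂.hom) pullback.condition.symm
  let m : T.left ⟶ P.left := pullback.lift _ _ hgl
  let η : T ⟶ (EtCoh.bc (uπ c l)).obj P := hm _ _ _ m (by
    show pullback.lift _ _ hgl ≫ pullback.fst o₁.hom o₂.hom ≫ o₁.hom = _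
    rw [pullback.lift_fst_assoc]
    exact left_cond _ δ₁)
  have hη₁ : η ≫ (EtCoh.bc (uπ c l)).map p₁ = δ₁ := bc_hom_ext _ _ _ (by
    rw [MorphismProperty.Comma.comp_left, Category.assoc, bc_map_fst, ← Category.assoc η.left, hm_fst]
    exact pullback.lift_fst _ _ _)
  have hη₂ : η ≫ (EtCoh.bc (uπ c l)).map p₂ = δ₂ := bc_hom_ext _ _ _ (by
    rw [MorphismProperty.Comma.comp_left, Category.assoc, bc_map_fst, ← Category.assoc η.left, hm_fst]
    exact pullback.lift_snd _ _ _)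
  obtain ⟨P', p', hP', w, hw⟩ := EtColimH.exists_affine_nhd P (fstE (uπ c l) P (η.left y))
  haveI := hP'
  let q := p' ≫ p₁
  let sP : EtCoh.sect (S.F l) P' := (S.F l).obj.map p'.op (S.ts b' p₂ t)
  let φ : (EtCoh.bc (uπ c l)).obj P' ⟶ (EtCoh.bc (uπ c j)).obj W := (EtCoh.bc (uπ c l)).map q ≫ toStage₁ b W
  let R : Sieve ((EtCoh.bc (uπ c l)).obj P') :=
    { arrows := fun V h => S.M.obj.map (h ≫ φ).op ζ = S.vs l h sP
      downward_closed := fun {V V'} h hh g' => by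
        show S.M.obj.map ((g' ≫ h) ≫ φ).op ζ = S.vs l (g' ≫ h) sP
        rw [Category.assoc, op_comp, Functor.map_comp, ConcreteCategory.comp_apply, hh, vs_pre] }
  obtain ⟨T₁, e₁, e₂, he, hT₁⟩ := EtSect.exists_pullback η ((EtCoh.bc (uπ c l)).map p')
  obtain ⟨x', hx'₁, -⟩ := Scheme.Pullback.exists_preimage_pullback
    (f := fstE (uπ c l) P) (g := p'.left) (η.left y) w hw.symm
  have hP2 := EtCoh.isPullback_bc_map (uπ c l) p'
  let x₁ : ((EtCoh.bc (uπ c l)).obj P').left := hP2.isoPullback.inv x'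
  have hx₁ : ((EtCoh.bc (uπ c l)).map p').left x₁ = η.left y := by
    rw [← Scheme.Hom.comp_apply]; erw [hP2.isoPullback_inv_fst]; exact hx'₁
  obtain ⟨y₁, hy₁⟩ := hT₁ y x₁ hx₁.symm
  have hR : R e₂ := by
    show S.M.obj.map (e₂ ≫ φ).op ζ = S.vs l e₂ sP
    have eφ : e₂ ≫ φ = (e₁ ≫ g₁) ≫ g := by
      rw [Category.assoc e₁, ← hδ₁, ← hη₁]
      show e₂ ≫ (EtCoh.bc (uπ c l)).map (p' ≫ p₁) ≫ toStage₁ b W = _
      rw [Functor.map_comp, Category.assoc, ← reassoc_of% he]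
      simp only [Category.assoc]
    rw [eφ, op_comp, Functor.map_comp, ConcreteCategory.comp_apply, ← hs₀]
    erw [← NatTrans.naturality_apply (S.ν j').hom]
    rw [op_comp, Functor.map_comp, ConcreteCategory.comp_apply, ht, r_pre]
    show S.vs j' (e₁ ≫ δ₀) t = _
    rw [vs_res, ← he]
    refine (vs_ts S b' p₂ (e₁ ≫ η) (e₁ ≫ δ₀) ?_ t).symm
    rw [MorphismProperty.Comma.comp_left, MorphismProperty.Comma.comp_left, Category.assoc, Category.assoc]
    refine congrArg (e₁.left ≫ ·) ?_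
    rw [← hδ₂', ← hη₂, MorphismProperty.Comma.comp_left, Category.assoc, reassoc_of% bc_map_fst]
  let y₂ : ((EtCoh.bc (uπ c l)).obj P').left := e₂.left y₁
  obtain ⟨k, a, Z, r₀, hZ, hG, hC⟩ := exists_local_good' D c hc P' R (EtColimH.qcqs_of_isAffine _) y₂
    ⟨T₁, e₂, hR, y₁, rfl⟩
  let qk : Z ⟶ (EtCoh.bc (D.map (a ≫ b))).obj W :=
    hm _ _ _ (r₀.left ≫ fstE (D.map a) P' ≫ q.left ≫ fstE (D.map b) W) (by
      rw [Category.assoc, Category.assoc, Category.assoc, pullback.condition, ← Category.assoc q.left, left_snd,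
        ← Category.assoc (fstE (D.map a) P'), pullback.condition, Category.assoc, D.map_comp, ← Category.assoc r₀.left,
        left_snd])
  have hqk : qk.left ≫ fstE (D.map (a ≫ b)) W = r₀.left ≫ fstE (D.map a) P' ≫ q.left ≫ fstE (D.map b) W := hm_fst _ _ _ _ _
  let h₀ : (EtCoh.bc (uπ c k)).obj Z ⟶ (EtCoh.bc (uπ c l)).obj P' := hm _ _ _ _ (w_step (c := c) a r₀)
  have hh₀ : h₀.left ≫ fstE (uπ c l) P' = fstE (uπ c k) Z ≫ r₀.left ≫ fstE (D.map a) P' := hm_fst _ _ _ _ _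
  have hφ : φ.left ≫ fstE (uπ c j) W = fstE (uπ c l) P' ≫ q.left ≫ fstE (D.map b) W := by
    rw [MorphismProperty.Comma.comp_left, Category.assoc]
    erw [hm_fst]
    rw [reassoc_of% bc_map_fst]
  refine ⟨k, a ≫ b, Z, qk, S.ts a r₀ sP, hZ, fun h hh => ?_, ?_⟩
  · have eh : h = h₀ ≫ φ := bc_hom_ext _ _ _ (by
      rw [hh, hqk]
      refine Eq.trans ?_ ((Category.assoc _ _ _).trans ((congrArg (h₀.left ≫ ·) hφ).trans
        ((Category.assoc _ _ _).symm.trans (congrArg (· ≫ q.left ≫ fstE (D.map b) W) hh₀)))).symm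
      simp only [Category.assoc])
    rw [eh]
    exact (hG h₀ hh₀).trans (vs_ts S a r₀ (𝟙 _) h₀ ((id_left_comp _).trans hh₀.symm) sP).symm
  · obtain ⟨h', hh', v, hv⟩ := hC
    refine ⟨h' ≫ φ, ?_, v, ?_⟩
    · rw [MorphismProperty.Comma.comp_left, Category.assoc]
      erw [hφ]
      erw [← Category.assoc h'.left, hh', hqk]
      simp only [Category.assoc]
    · show (h'.left ≫ φ.left) v = g.left (g₁.left y)
      rw [Scheme.Hom.comp_apply, hv]
      show (e₂.left ≫ φ.left) y₁ = _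
      have eφ : e₂ ≫ φ = (e₁ ≫ g₁) ≫ g := by
        rw [Category.assoc e₁, ← hδ₁, ← hη₁]
        show e₂ ≫ (EtCoh.bc (uπ c l)).map (p' ≫ p₁) ≫ toStage₁ b W = _
        rw [Functor.map_comp, Category.assoc, ← reassoc_of% he]
        simp only [Category.assoc]
      rw [← MorphismProperty.Comma.comp_left, eφ, MorphismProperty.Comma.comp_left, MorphismProperty.Comma.comp_left,
        Scheme.Hom.comp_apply, Scheme.Hom.comp_apply, hy₁]⟩

include hc in
theorem h₀_of_isColim (hψ : S.Cocycle) (hM : S.IsColim) (j : I) (A : EtCoh.Ab (D.obj j)) (hA : Gen A) :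
    S.sys.Inj 0 j A ∧ S.sys.Surj 0 j A :=
  have hI := injSect_of_germI hc hψ (germI_of_isColim hM)
  ⟨inj₀_of_sect hI j A hA, surj₀_of_sect (surjSect_of_germS hc hψ (germS_of_isColim hc hψ hM) hI) j A hA⟩

end Groth.Agent.EtLimit
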