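import Groth.Agent.EtMV.Ext
import Mathlib

/-! Colimits of `Ext` groups along systems of exact functors: the induction over presentations. -/

universe w w' v v' u u' t

open CategoryTheory CategoryTheory.Limits CategoryTheory.Abelian

noncomputable section

namespace Groth.Agent.EtLimit

variable {J : Type t} (C : J → Type u) [∀ j, Category.{v} (C j)] [∀ j, Abelian (C j)]
  [∀ j, HasExt.{w} (C j)] [∀ j, EnoughInjectives (C j)] (Y : Type u') [Category.{v'} Y] [Abelian Y] [HasExt.{w'} Y]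

/-- a system of objects over a system of exact functors, with a cocone -/
structure Sys where
  /-- arrows between stages -/
  R : J → J → Type t
  /-- transition functors -/
  L : ∀ {k j : J}, R k j → C j ⥤ C k
  L_add : ∀ {k j : J} (a : R k j), (L a).Additive
  L_lim : ∀ {k j : J} (a : R k j), PreservesFiniteLimits (L a)
  L_colim : ∀ {k j : J} (a : R k j), PreservesFiniteColimits (L a)
  /-- functors to the limit -/
  U : ∀ j, C j ⥤ Y
  U_add : ∀ j, (U j).Additive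
  U_lim : ∀ j, PreservesFiniteLimits (U j)
  U_colim : ∀ j, PreservesFiniteColimits (U j)
  /-- compatibility -/
  iso : ∀ {k j : J} (a : R k j), L a ⋙ U k ≅ U j
  /-- the objects -/
  F : ∀ j, C j
  /-- transition maps -/
  ψ : ∀ {k j : J} (a : R k j), (L a).obj (F j) ⟶ F k
  /-- the colimit -/
  M : Y
  /-- the cocone -/
  ν : ∀ j, (U j).obj (F j) ⟶ M
  compat : ∀ {k j : J} (a : R k j), (U k).map (ψ a) ≫ ν k = (iso a).hom.app (F j) ≫ ν j
  /-- the generators -/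
  G : ∀ j, C j → Prop
  G_map : ∀ {k j : J} (a : R k j) (A : C j), G j A → G k ((L a).obj A)

variable {C Y}
variable (s : Sys C Y)

attribute [instance] Sys.L_add Sys.L_lim Sys.L_colim Sys.U_add Sys.U_lim Sys.U_colim

namespace Sys

/-- transition on `Ext` -/
def tr {k j : J} (a : s.R k j) (A : C j) (n : ℕ) : Ext A (s.F j) n →+ Ext ((s.L a).obj A) (s.F k) n :=
  AddMonoidHom.comp (AddMonoidHom.mk' (fun e => e.comp (Ext.mk₀ (s.ψ a)) (add_zero n)) fun _ _ => Ext.add_comp _ _ _ _)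
    ((s.L a).mapExtAddHom A (s.F j) n)

theorem tr_apply {k j : J} (a : s.R k j) (A : C j) (n : ℕ) (x : Ext A (s.F j) n) :
    s.tr a A n x = (x.mapExactFunctor (s.L a)).comp (Ext.mk₀ (s.ψ a)) (add_zero n) := rfl

/-- comparison with the limit -/
def V (j : J) (A : C j) (n : ℕ) : Ext A (s.F j) n →+ Ext ((s.U j).obj A) s.M n :=
  AddMonoidHom.comp (AddMonoidHom.mk' (fun e => e.comp (Ext.mk₀ (s.ν j)) (add_zero n)) fun _ _ => Ext.add_comp _ _ _ _)
    ((s.U j).mapExtAddHom A (s.F j) n)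

theorem V_apply (j : J) (A : C j) (n : ℕ) (x : Ext A (s.F j) n) :
    s.V j A n x = (x.mapExactFunctor (s.U j)).comp (Ext.mk₀ (s.ν j)) (add_zero n) := rfl

theorem tr_comp {k j : J} (a : s.R k j) {A' A : C j} {m n N : ℕ} (e : Ext A' A m) (x : Ext A (s.F j) n) (h : m + n = N) :
    s.tr a A' N (e.comp x h) = (e.mapExactFunctor (s.L a)).comp (s.tr a A n x) h := by
  rw [tr_apply, tr_apply, Ext.mapExactFunctor_comp, Ext.comp_assoc (a₂₃ := n) _ _ _ h (add_zero n) (by lia)]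

theorem V_comp {j : J} {A' A : C j} {m n N : ℕ} (e : Ext A' A m) (x : Ext A (s.F j) n) (h : m + n = N) :
    s.V j A' N (e.comp x h) = (e.mapExactFunctor (s.U j)).comp (s.V j A n x) h := by
  rw [V_apply, V_apply, Ext.mapExactFunctor_comp, Ext.comp_assoc (a₂₃ := n) _ _ _ h (add_zero n) (by lia)]

theorem map_map {k j : J} (a : s.R k j) {A' A : C j} {n : ℕ} (e : Ext A' A n) :
    ((e.mapExactFunctor (s.L a)).mapExactFunctor (s.U k)).comp (Ext.mk₀ ((s.iso a).hom.app A)) (add_zero n) =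
      (Ext.mk₀ ((s.iso a).hom.app A')).comp (e.mapExactFunctor (s.U j)) (zero_add n) := by
  have h := EtMV.T_T (s.L a) (s.U k) (s.U j) (s.iso a) (P := A') (𝟙 _) (𝟙 _) ((s.iso a).hom.app A')
    (by rw [CategoryTheory.Functor.map_id, Category.id_comp, Category.id_comp]) n A e
  rw [EtMV.T_apply, EtMV.T_apply, EtMV.T_apply, Ext.mk₀_id_comp, Ext.mk₀_id_comp] at h
  exact h

theorem V_tr {k j : J} (a : s.R k j) (A : C j) (n : ℕ) (x : Ext A (s.F j) n) :
    s.V k _ n (s.tr a A n x) = (Ext.mk₀ ((s.iso a).hom.app A)).comp (s.V j A n x) (zero_add n) := by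
  rw [V_apply, tr_apply, Ext.mapExactFunctor_comp, Ext.mapExactFunctor_mk₀,
    Ext.comp_assoc_of_second_deg_zero, Ext.mk₀_comp_mk₀, s.compat, ← Ext.mk₀_comp_mk₀,
    ← Ext.comp_assoc_of_second_deg_zero, map_map, Ext.comp_assoc_of_third_deg_zero, V_apply]

/-- presentations of depth `r` -/
def Res (j : J) : ℕ → C j → Prop
  | 0, A => ∃ (Z : C j) (g : Z ⟶ A), s.G j Z ∧ Epi g
  | r + 1, A => ∃ (K Z : C j) (f : K ⟶ Z) (g : Z ⟶ A) (h : f ≫ g = 0),
      (ShortComplex.mk f g h).ShortExact ∧ s.G j Z ∧ Res j r K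

theorem res_of_succ {j : J} : ∀ (r : ℕ) {A : C j}, s.Res j (r + 1) A → s.Res j r A
  | 0, _, ⟨_, Z, _, g, _, hS, hZ, _⟩ => ⟨Z, g, hZ, hS.epi_g⟩
  | r + 1, _, ⟨K, Z, f, g, h, hS, hZ, hK⟩ => ⟨K, Z, f, g, h, hS, hZ, res_of_succ r hK⟩

theorem res_of_le {j : J} {r r' : ℕ} (h : r ≤ r') {A : C j} (hA : s.Res j r' A) : s.Res j r A := by
  induction r', h using Nat.le_induction with
  | base => exact hA
  | succ m _ ih => exact ih (s.res_of_succ m hA)

theorem res_map {k j : J} (a : s.R k j) : ∀ (r : ℕ) {A : C j}, s.Res j r A → s.Res k r ((s.L a).obj A)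
  | 0, _, ⟨Z, g, hZ, hg⟩ => ⟨_, (s.L a).map g, s.G_map a Z hZ, inferInstance⟩
  | r + 1, _, ⟨_, _, f, g, h, hS, hZ, hK⟩ =>
    ⟨_, _, (s.L a).map f, (s.L a).map g, by rw [← Functor.map_comp, h, Functor.map_zero],
      hS.map_of_exact (s.L a), s.G_map a _ hZ, res_map a r hK⟩

/-- a class dies at some stage -/
inductive Dies (n : ℕ) : ∀ {j : J} (A : C j), Ext A (s.F j) n → Prop
  | zero {j : J} {A : C j} : Dies n A 0
  | step {k j : J} (a : s.R k j) {A : C j} {x : Ext A (s.F j) n} :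
      Dies n ((s.L a).obj A) (s.tr a A n x) → Dies n A x

/-- a class on the limit comes from some stage -/
inductive Lifts (n : ℕ) : ∀ {j : J} (A : C j), Ext ((s.U j).obj A) s.M n → Prop
  | here {j : J} {A : C j} (x : Ext A (s.F j) n) : Lifts n A (s.V j A n x)
  | step {k j : J} (a : s.R k j) {A : C j} {ζ : Ext ((s.U j).obj A) s.M n} :
      Lifts n ((s.L a).obj A) ((Ext.mk₀ ((s.iso a).hom.app A)).comp ζ (zero_add n)) → Lifts n A ζ

variable {s}

theorem Dies.comp {j : J} {A : C j} {n : ℕ} {x : Ext A (s.F j) n} (hx : s.Dies n A x) :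
    ∀ {A' : C j} {m N : ℕ} (e : Ext A' A m) (h : m + n = N), s.Dies N A' (e.comp x h) := by
  induction hx with
  | zero => intro A' m N e h; rw [Ext.comp_zero]; exact .zero
  | step a _ ih => intro A' m N e h; exact .step a (by rw [tr_comp]; exact ih _ h)

theorem Lifts.add_here {j : J} {A : C j} {n : ℕ} {ζ : Ext ((s.U j).obj A) s.M n} (hζ : s.Lifts n A ζ) :
    ∀ y : Ext A (s.F j) n, s.Lifts n A (ζ + s.V j A n y) := by
  induction hζ with
  | here x => intro y; rw [← map_add]; exact .here _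
  | @step k j a A ζ _ ih =>
    intro y
    refine .step a ?_
    rw [Ext.comp_add, ← V_tr]
    exact ih _

theorem Lifts.comp {j : J} {A : C j} {n : ℕ} {ζ : Ext ((s.U j).obj A) s.M n} (hζ : s.Lifts n A ζ) :
    ∀ {A' : C j} {m N : ℕ} (e : Ext A' A m) (h : m + n = N),
      s.Lifts N A' ((e.mapExactFunctor (s.U j)).comp ζ h) := by
  induction hζ with
  | here x => intro A' m N e h; rw [← V_comp]; exact .here _
  | @step k j a A ζ _ ih =>
    intro A' m N e h
    refine .step a ?_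
    have := ih (e.mapExactFunctor (s.L a)) h
    rwa [← Ext.comp_assoc (a₁₂ := m) _ _ _ (add_zero m) (zero_add n) (by lia), map_map,
      Ext.comp_assoc (a₂₃ := N) _ _ _ (zero_add m) h (by lia)] at this

variable (s)

/-- injectivity in degree `n` -/
def Inj (n : ℕ) (j : J) (A : C j) : Prop := ∀ x : Ext A (s.F j) n, s.V j A n x = 0 → s.Dies n A x

/-- surjectivity in degree `n` -/
def Surj (n : ℕ) (j : J) (A : C j) : Prop := ∀ ζ : Ext ((s.U j).obj A) s.M n, s.Lifts n A ζ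

/-- the hypotheses of the induction -/
structure Hyp : Prop where
  inj₀ : ∀ j (Z : C j), s.G j Z → s.Inj 0 j Z
  surj₀ : ∀ j (Z : C j), s.G j Z → s.Surj 0 j Z
  kill : ∀ j (Z : C j), s.G j Z → ∀ (n : ℕ) (x : Ext Z (s.F j) (n + 1)),
    ∃ (K Z' : C j) (f : K ⟶ Z') (g : Z' ⟶ Z) (h : f ≫ g = 0), (ShortComplex.mk f g h).ShortExact ∧
      s.G j Z' ∧ (∀ r, s.Res j r K) ∧ (Ext.mk₀ g).comp x (zero_add (n + 1)) = 0
  killLim : ∀ j (Z : C j), s.G j Z → ∀ (n : ℕ) (ζ : Ext ((s.U j).obj Z) s.M (n + 1)),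
    ∃ (k : J) (a : s.R k j) (K Z' : C k) (f : K ⟶ Z') (g : Z' ⟶ (s.L a).obj Z) (h : f ≫ g = 0),
      (ShortComplex.mk f g h).ShortExact ∧ s.G k Z' ∧ (∀ r, s.Res k r K) ∧
        (Ext.mk₀ ((s.U k).map g)).comp ((Ext.mk₀ ((s.iso a).hom.app Z)).comp ζ (zero_add (n + 1))) (zero_add (n + 1)) = 0

variable {s}

theorem dies_of_precomp {j : J} {B : C j} {y : Ext B (s.F j) 0} (hy : s.Dies 0 B y) :
    ∀ {A : C j} (g : B ⟶ A), Epi g → ∀ x : Ext A (s.F j) 0, (Ext.mk₀ g).comp x (zero_add 0) = y → s.Dies 0 A x := by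
  induction hy with
  | @zero j B =>
    intro A g hg x hx
    obtain ⟨φ, rfl⟩ := (Ext.mk₀_bijective _ _).2 x
    rw [Ext.mk₀_comp_mk₀, Ext.mk₀_eq_zero_iff, ← comp_zero (f := g), cancel_epi] at hx
    rw [hx, Ext.mk₀_zero]
    exact .zero
  | @step k j a B y _ ih =>
    intro A g hg x hx
    refine .step a (ih ((s.L a).map g) inferInstance _ ?_)
    rw [← hx, tr_comp, Ext.mapExactFunctor_mk₀]

theorem inj₀_of_res (H : s.Hyp) {j : J} {A : C j} (hA : s.Res j 0 A) : s.Inj 0 j A := by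
  obtain ⟨Z, g, hZ, hg⟩ := hA
  intro x hx
  exact dies_of_precomp (H.inj₀ j Z hZ _ (by rw [V_comp, hx, Ext.comp_zero])) g hg x rfl

theorem dies_of_lift {n : ℕ} (hK : ∀ {k : J} {B : C k}, s.Res k (2 * n + 1) B → s.Inj n k B)
    {j : J} {Z : C j} {θ : Ext ((s.U j).obj Z) s.M n} (hθ : s.Lifts n Z θ) :
    ∀ {K A : C j} {f : K ⟶ Z} {g : Z ⟶ A} {h : f ≫ g = 0} (hS : (ShortComplex.mk f g h).ShortExact),
      s.Res j (2 * n + 1) K → ∀ η : Ext K (s.F j) n,
        (Ext.mk₀ ((s.U j).map f)).comp θ (zero_add n) = s.V j K n η →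
          s.Dies (n + 1) A (hS.extClass.comp η (show 1 + n = n + 1 by lia)) := by
  induction hθ with
  | @here j Z t =>
    intro K A f g h hS hKr η hθ'
    have hd : s.V j K n (η - (Ext.mk₀ f).comp t (zero_add n)) = 0 := by
      rw [map_sub, V_comp, Ext.mapExactFunctor_mk₀, hθ', sub_self]
    have he := (hK hKr _ hd).comp hS.extClass (show 1 + n = n + 1 by lia)
    rw [sub_eq_add_neg, Ext.comp_add, Ext.comp_neg, ← Ext.comp_assoc (a₁₂ := 1) _ _ _ (add_zero 1) (zero_add n) (by lia),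
      hS.extClass_comp, Ext.zero_comp, neg_zero, add_zero] at he
    exact he
  | @step k j a Z θ _ ih =>
    intro K A f g h hS hKr η hθ'
    refine .step a ?_
    rw [tr_comp, Ext.mapExactFunctor_extClass]
    refine ih (f := (s.L a).map f) (g := (s.L a).map g) (h := by rw [← Functor.map_comp, h, Functor.map_zero])
      (hS.map_of_exact (s.L a)) (s.res_map a _ hKr) (s.tr a K n η) ?_
    rw [V_tr, ← hθ', Ext.mk₀_comp_mk₀_assoc, Ext.mk₀_comp_mk₀_assoc, ← Functor.comp_map, (s.iso a).hom.naturality]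

theorem dies_of_killed {n : ℕ} {j : J} {K Z A : C j} {f : K ⟶ Z} {g : Z ⟶ A} {h : f ≫ g = 0}
    (hS : (ShortComplex.mk f g h).ShortExact) (hZ : s.Surj n j Z)
    (hK : ∀ {k : J} {B : C k}, s.Res k (2 * n + 1) B → s.Inj n k B) (hKr : s.Res j (2 * n + 1) K)
    (x : Ext A (s.F j) (n + 1)) (hgx : (Ext.mk₀ g).comp x (zero_add (n + 1)) = 0)
    (hx : s.V j A (n + 1) x = 0) : s.Dies (n + 1) A x := by
  obtain ⟨η, rfl⟩ := Ext.contravariant_sequence_exact₃ hS (s.F j) x hgx (n₀ := n) (by lia)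
  rw [V_comp, Ext.mapExactFunctor_extClass] at hx
  obtain ⟨θ, hθ⟩ := Ext.contravariant_sequence_exact₁ (hS.map_of_exact (s.U j)) s.M _ _ hx
  exact dies_of_lift hK (hZ θ) hS hKr η hθ

theorem inj_of_dies {n : ℕ} (hKinj : ∀ {k : J} {B : C k}, s.Res k (2 * n + 1) B → s.Inj n k B)
    (hsurjG : ∀ {k : J} {B : C k}, s.G k B → s.Surj n k B) {j : J} {Z : C j} {y : Ext Z (s.F j) (n + 1)}
    (hy : s.Dies (n + 1) Z y) :
    ∀ {K A : C j} (f : K ⟶ Z) (g : Z ⟶ A) (h : f ≫ g = 0), (ShortComplex.mk f g h).ShortExact → s.G j Z →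
      s.Res j (2 * n + 1) K → ∀ x : Ext A (s.F j) (n + 1), (Ext.mk₀ g).comp x (zero_add (n + 1)) = y →
        s.V j A (n + 1) x = 0 → s.Dies (n + 1) A x := by
  induction hy with
  | @zero j Z =>
    intro K A f g h hS hZ hK x hgx hx
    exact dies_of_killed hS (hsurjG hZ) hKinj hK x hgx hx
  | @step k j a Z y _ ih =>
    intro K A f g h hS hZ hK x hgx hx
    refine .step a (ih ((s.L a).map f) ((s.L a).map g) (by rw [← Functor.map_comp, h, Functor.map_zero])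
      (hS.map_of_exact (s.L a)) (s.G_map a Z hZ) (s.res_map a _ hK) _ ?_ ?_)
    · rw [← hgx, tr_comp, Ext.mapExactFunctor_mk₀]
    · rw [V_tr, hx, Ext.comp_zero]

theorem lifts_of_killed {n : ℕ} {j : J} {K Z A : C j} {f : K ⟶ Z} {g : Z ⟶ A} {h : f ≫ g = 0}
    (hS : (ShortComplex.mk f g h).ShortExact) (hK : s.Surj n j K) (ζ : Ext ((s.U j).obj A) s.M (n + 1))
    (hgζ : (Ext.mk₀ ((s.U j).map g)).comp ζ (zero_add (n + 1)) = 0) : s.Lifts (n + 1) A ζ := by
  obtain ⟨η, rfl⟩ := Ext.contravariant_sequence_exact₃ (hS.map_of_exact (s.U j)) s.M ζ hgζ (n₀ := n) (by lia)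
  have := (hK η).comp hS.extClass (show 1 + n = n + 1 by lia)
  rwa [Ext.mapExactFunctor_extClass] at this

theorem lifts_zero_of_dies {j : J} {K : C j} {d : Ext K (s.F j) 0} (hd : s.Dies 0 K d) :
    ∀ {Z A : C j} (f : K ⟶ Z) (g : Z ⟶ A) (h : f ≫ g = 0), (ShortComplex.mk f g h).ShortExact →
      ∀ (x : Ext Z (s.F j) 0) (ζ : Ext ((s.U j).obj A) s.M 0), (Ext.mk₀ f).comp x (zero_add 0) = d →
        s.V j Z 0 x = (Ext.mk₀ ((s.U j).map g)).comp ζ (zero_add 0) → s.Lifts 0 A ζ := by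
  induction hd with
  | @zero j K =>
    intro Z A f g h hS x ζ hfx hx
    obtain ⟨y, rfl⟩ := Ext.contravariant_sequence_exact₂ hS (s.F j) x hfx
    suffices ζ = s.V j A 0 y by rw [this]; exact .here y
    rw [V_comp, Ext.mapExactFunctor_mk₀] at hx
    obtain ⟨φ, rfl⟩ := (Ext.mk₀_bijective _ _).2 ζ
    obtain ⟨φ', hφ'⟩ := (Ext.mk₀_bijective _ _).2 (s.V j A 0 y)
    rw [← hφ'] at hx ⊢
    haveI := hS.epi_g
    haveI : Epi ((s.U j).map g) := inferInstance
    rw [Ext.mk₀_comp_mk₀, Ext.mk₀_comp_mk₀] at hx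
    rw [(cancel_epi ((s.U j).map g)).1 ((Ext.mk₀_bijective _ _).1 hx)]
  | @step k j a K d _ ih =>
    intro Z A f g h hS x ζ hfx hx
    refine .step a (ih ((s.L a).map f) ((s.L a).map g) (by rw [← Functor.map_comp, h, Functor.map_zero])
      (hS.map_of_exact (s.L a)) (s.tr a Z 0 x) _ ?_ ?_)
    · rw [← hfx, tr_comp, Ext.mapExactFunctor_mk₀]
    · rw [V_tr, hx, Ext.mk₀_comp_mk₀_assoc, Ext.mk₀_comp_mk₀_assoc, ← Functor.comp_map, (s.iso a).hom.naturality]

theorem lifts_succ_of_dies {n : ℕ} (hsurj : ∀ {k : J} {B : C k}, s.Res k (2 * n + 2) B → s.Surj n k B)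
    {j : J} {K : C j} {d : Ext K (s.F j) (n + 1)} (hd : s.Dies (n + 1) K d) :
    ∀ {Z A : C j} (f : K ⟶ Z) (g : Z ⟶ A) (h : f ≫ g = 0), (ShortComplex.mk f g h).ShortExact →
      s.Res j (2 * n + 2) K → ∀ (x : Ext Z (s.F j) (n + 1)) (ζ : Ext ((s.U j).obj A) s.M (n + 1)),
        (Ext.mk₀ f).comp x (zero_add (n + 1)) = d →
        s.V j Z (n + 1) x = (Ext.mk₀ ((s.U j).map g)).comp ζ (zero_add (n + 1)) → s.Lifts (n + 1) A ζ := by
  induction hd with
  | @zero j K =>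
    intro Z A f g h hS hK x ζ hfx hx
    obtain ⟨y, rfl⟩ := Ext.contravariant_sequence_exact₂ hS (s.F j) x hfx
    rw [V_comp, Ext.mapExactFunctor_mk₀] at hx
    have := (lifts_of_killed hS (hsurj hK) (ζ - s.V j A (n + 1) y)
      (by rw [sub_eq_add_neg, Ext.comp_add, Ext.comp_neg, ← hx, add_neg_cancel])).add_here y
    rwa [sub_add_cancel] at this
  | @step k j a K d _ ih =>
    intro Z A f g h hS hK x ζ hfx hx
    refine .step a (ih ((s.L a).map f) ((s.L a).map g) (by rw [← Functor.map_comp, h, Functor.map_zero])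
      (hS.map_of_exact (s.L a)) (s.res_map a _ hK) (s.tr a Z (n + 1) x) _ ?_ ?_)
    · rw [← hfx, tr_comp, Ext.mapExactFunctor_mk₀]
    · rw [V_tr, hx, Ext.mk₀_comp_mk₀_assoc, Ext.mk₀_comp_mk₀_assoc, ← Functor.comp_map, (s.iso a).hom.naturality]

/-- surjectivity from surjectivity on generators and injectivity on syzygies -/
theorem lifts_of_lifts {n : ℕ} (hinj : ∀ {k : J} {B : C k}, s.Res k (2 * n + 1) B → s.Inj n k B)
    (hfin : ∀ {k : J} {K Z A : C k} {d : Ext K (s.F k) n}, s.Dies n K d →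
      ∀ (f : K ⟶ Z) (g : Z ⟶ A) (h : f ≫ g = 0), (ShortComplex.mk f g h).ShortExact →
        s.Res k (2 * n + 1) K → ∀ (x : Ext Z (s.F k) n) (ζ : Ext ((s.U k).obj A) s.M n),
          (Ext.mk₀ f).comp x (zero_add n) = d →
          s.V k Z n x = (Ext.mk₀ ((s.U k).map g)).comp ζ (zero_add n) → s.Lifts n A ζ)
    {j : J} {Z : C j} {θ : Ext ((s.U j).obj Z) s.M n} (hθ : s.Lifts n Z θ) :
    ∀ {K A : C j} (f : K ⟶ Z) (g : Z ⟶ A) (h : f ≫ g = 0), (ShortComplex.mk f g h).ShortExact →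
      s.Res j (2 * n + 1) K → ∀ ζ : Ext ((s.U j).obj A) s.M n,
        θ = (Ext.mk₀ ((s.U j).map g)).comp ζ (zero_add n) → s.Lifts n A ζ := by
  induction hθ with
  | @here j Z x =>
    intro K A f g h hS hK ζ hx
    refine hfin (hinj hK ((Ext.mk₀ f).comp x (zero_add n)) ?_) f g h hS hK x ζ rfl hx
    rw [V_comp, Ext.mapExactFunctor_mk₀, hx, Ext.mk₀_comp_mk₀_assoc, ← Functor.map_comp, h, Functor.map_zero,
      Ext.mk₀_zero, Ext.zero_comp]
  | @step k j a Z θ _ ih =>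
    intro K A f g h hS hK ζ hx
    refine .step a (ih ((s.L a).map f) ((s.L a).map g) (by rw [← Functor.map_comp, h, Functor.map_zero])
      (hS.map_of_exact (s.L a)) (s.res_map a _ hK) _ ?_)
    rw [hx, Ext.mk₀_comp_mk₀_assoc, Ext.mk₀_comp_mk₀_assoc, ← Functor.comp_map, (s.iso a).hom.naturality]

variable (s)

/-- both statements in degree `n` -/
theorem main (H : s.Hyp) : ∀ n : ℕ,
    (∀ (j : J) (A : C j), s.Res j (2 * n + 1) A → s.Inj n j A) ∧
    (∀ (j : J) (A : C j), s.Res j (2 * n + 2) A → s.Surj n j A) ∧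
    (∀ (j : J) (Z : C j), s.G j Z → s.Inj n j Z ∧ s.Surj n j Z) := by
  intro n
  induction n with
  | zero =>
    have hi : ∀ (j : J) (A : C j), s.Res j 1 A → s.Inj 0 j A := fun j A hA => inj₀_of_res H (s.res_of_succ 0 hA)
    refine ⟨hi, fun j A hA => ?_, fun j Z hZ => ⟨H.inj₀ j Z hZ, H.surj₀ j Z hZ⟩⟩
    obtain ⟨K, Z, f, g, h, hS, hZ, hK⟩ := hA
    intro ζ
    exact lifts_of_lifts (fun {k B} hB => hi k B hB)
      (fun hd f g h hS _ => lifts_zero_of_dies hd f g h hS) (H.surj₀ j Z hZ _) f g h hS hK ζ rfl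
  | succ n ih =>
    obtain ⟨ihi, ihs, ihg⟩ := ih
    have hiG : ∀ (j : J) (Z : C j), s.G j Z → s.Inj (n + 1) j Z := fun j Z hZ x hx => by
      obtain ⟨K, Z', f, g, h, hS, hZ', hK, hgx⟩ := H.kill j Z hZ n x
      exact dies_of_killed hS (ihg j Z' hZ').2 (fun {k B} hB => ihi k B hB) (hK _) x hgx hx
    have hi : ∀ (j : J) (A : C j), s.Res j (2 * (n + 1) + 1) A → s.Inj (n + 1) j A := fun j A hA x hx => by
      obtain ⟨K, Z, f, g, h, hS, hZ, hK⟩ := s.res_of_le (show 2 * n + 1 + 1 ≤ 2 * (n + 1) + 1 by lia) hA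
      exact inj_of_dies (fun {k B} hB => ihi k B hB) (fun {k B} hB => (ihg k B hB).2)
        (hiG j Z hZ _ (by rw [V_comp, hx, Ext.comp_zero])) f g h hS hZ hK x rfl hx
    have hsG : ∀ (j : J) (Z : C j), s.G j Z → s.Surj (n + 1) j Z := fun j Z hZ ζ => by
      obtain ⟨k, a, K, Z', f, g, h, hS, hZ', hK, hgζ⟩ := H.killLim j Z hZ n ζ
      exact .step a (lifts_of_killed hS (ihs k K (hK _)) _ hgζ)
    refine ⟨hi, fun j A hA => ?_, fun j Z hZ => ⟨hiG j Z hZ, hsG j Z hZ⟩⟩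
    obtain ⟨K, Z, f, g, h, hS, hZ, hK⟩ := s.res_of_le (show 2 * (n + 1) + 1 + 1 ≤ 2 * (n + 1) + 2 by lia) hA
    intro ζ
    exact lifts_of_lifts (fun {k B} hB => hi k B hB)
      (fun {k K Z A d} hd f g h hS hK => lifts_succ_of_dies (fun {k B} hB => ihs k B hB) hd f g h hS
        (s.res_of_le (by lia) hK))
      (hsG j Z hZ _) f g h hS hK ζ rfl

end Sys

end Groth.Agent.EtLimit
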