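import Groth.Agent.EtLimit.Induction
import Groth.Agent.EtLimit.BaseChange
import Groth.Agent.EtColimH.PTorsion
import Groth.Agent.EtMV.KillClass
import Mathlib

/-! Čech resolutions by free sheaves on quasi-compact quasi-separated etale objects. -/

universe u

open CategoryTheory CategoryTheory.Limits CategoryTheory.Abelian AlgebraicGeometry Opposite
open Groth.Agent.EpsLan (pwr pproj pdrop pproj_comm pd pd_pd pd_proj_zero pExact_of_injective)

set_option backward.isDefEq.respectTransparency false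
set_option backward.isDefEq.respectTransparency.types false

noncomputable section

namespace Groth.Agent.EtLimit

set_option linter.auxLemma false
attribute [local instance 100000] EtCoh.H._proof_1 Groth.Agent.EtMV.hext
attribute [local instance 200000] Groth.Agent.EtMV.hextAb

open EtColimH EtMV

/-- exactness is detected by maps into injectives -/
theorem exact_of_injective {A : Type*} [Category A] [Abelian A] [EnoughInjectives A] (S : ShortComplex A)
    (h : ∀ (I : A) [Injective I] (φ : S.X₂ ⟶ I), S.f ≫ φ = 0 → ∃ ψ, S.g ≫ ψ = φ) : S.Exact := by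
  rw [ShortComplex.exact_iff_mono_cokernel_desc]
  obtain ⟨ψ, hψ⟩ := h (Injective.under (cokernel S.f)) (cokernel.π S.f ≫ Injective.ι _)
    (by rw [cokernel.condition_assoc, zero_comp])
  have e : cokernel.desc S.f S.g S.zero ≫ ψ = Injective.ι (cokernel S.f) := by
    rw [← cancel_epi (cokernel.π S.f), cokernel.π_desc_assoc, hψ]
  exact mono_of_mono_fac e

variable {X : Scheme.{u}}

/-- generators: free sheaves on quasi-compact quasi-separated objects -/
def Gen (A : EtCoh.Ab X) : Prop := ∃ o : X.Etale, Qcqs o ∧ Nonempty (A ≅ (EtMV.P X).obj o)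

theorem σ_sum {o : X.Etale} {G : EtCoh.Ab X} {ι : Type*} (s : Finset ι) (φ : ι → ((EtMV.P X).obj o ⟶ G)) :
    σ (∑ i ∈ s, φ i) = ∑ i ∈ s, σ (φ i) :=
  map_sum (AddMonoidHom.mk' (σ (o := o) (G := G)) EtMV.σ_add) φ s

theorem σ_zsmul {o : X.Etale} {G : EtCoh.Ab X} (n : ℤ) (φ : (EtMV.P X).obj o ⟶ G) : σ (n • φ) = n • σ φ :=
  map_zsmul (AddMonoidHom.mk' (σ (o := o) (G := G)) EtMV.σ_add) n φ

theorem σ_zero {o : X.Etale} {G : EtCoh.Ab X} : σ (0 : (EtMV.P X).obj o ⟶ G) = 0 :=
  map_zero (AddMonoidHom.mk' (σ (o := o) (G := G)) EtMV.σ_add)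

section Cech

variable {Z W : X.Etale} (p : Z ⟶ W)

/-- the augmented Čech objects -/
def T : ℕ → X.Etale
  | 0 => W
  | n + 1 => pwr p n

/-- the differential -/
def d : ∀ n, (EtMV.P X).obj (T p (n + 1)) ⟶ (EtMV.P X).obj (T p n)
  | 0 => (EtMV.P X).map (pproj p 0 0 ≫ p)
  | n + 1 => ∑ k : Fin (n + 2), (-1 : ℤ) ^ (k : ℕ) • (EtMV.P X).map (pdrop p n k)

theorem σ_d {n : ℕ} {G : EtCoh.Ab X} (φ : (EtMV.P X).obj (pwr p n) ⟶ G) :
    σ (d p (n + 1) ≫ φ) = pd G.obj p (σ φ) := by
  refine (congrArg σ (Preadditive.sum_comp _ _ _)).trans ((σ_sum _ _).trans (Finset.sum_congr rfl fun k _ => ?_))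
  rw [Preadditive.zsmul_comp, σ_zsmul]
  exact congrArg _ (σ_map _ _)

theorem d_d : ∀ n, d p (n + 1) ≫ d p n = 0
  | 0 => by
    apply σ.injective
    rw [σ_d, σ_zero]
    have e : σ (d p 0) = ((EtMV.P X).obj W).obj.map (pproj p 0 0 ≫ p).op (uel W) := by
      show σ ((EtMV.P X).map (pproj p 0 0 ≫ p)) = _
      rw [← Category.comp_id ((EtMV.P X).map _), σ_map]
      rfl
    refine (congrArg (pd ((EtMV.P X).obj W).obj p) e).trans ?_
    rw [op_comp, Functor.map_comp, ConcreteCategory.comp_apply, pd_proj_zero, ← ConcreteCategory.comp_apply,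
      ← ConcreteCategory.comp_apply, ← Functor.map_comp, ← Functor.map_comp, ← op_comp, ← op_comp, pproj_comm,
      sub_self]
  | n + 1 => by
    apply σ.injective
    rw [σ_d, σ_zero]
    refine (congrArg (pd _ p) ((congrArg σ (Category.comp_id (d p (n + 1))).symm).trans (σ_d p (𝟙 _)))).trans ?_
    exact pd_pd _ _ _

theorem exact_d (hp : Function.Surjective p.left) : ∀ n, (ShortComplex.mk (d p (n + 1)) (d p n) (d_d p n)).Exact := by
  intro n
  refine exact_of_injective _ fun I hI φ hφ => ?_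
  haveI : Injective I.obj := Injective.injective_of_adjoint (sheafificationAdjunction X.smallEtaleTopology AddCommGrpCat.{u + 1}) I
  cases n with
  | zero =>
    let φ' : (EtMV.P X).obj (pwr p 0) ⟶ I := φ
    have h0 : pd I.obj p (σ φ') = 0 := by rw [← σ_d, ← σ_zero (o := pwr p 1) (G := I)]; exact congrArg σ hφ
    obtain ⟨w, hw⟩ := exists_descend I p hp (σ φ') h0
    refine ⟨σ.symm w, (σ (o := pwr p 0) (G := I)).injective ?_⟩
    refine (σ_map (pproj p 0 0 ≫ p) (σ.symm w : (EtMV.P X).obj W ⟶ I)).trans ?_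
    rw [Equiv.apply_symm_apply]
    exact hw
  | succ n =>
    let φ' : (EtMV.P X).obj (pwr p (n + 1)) ⟶ I := φ
    have h0 : pd I.obj p (σ φ') = 0 := by rw [← σ_d, ← σ_zero (o := pwr p (n + 2)) (G := I)]; exact congrArg σ hφ
    obtain ⟨y, hy⟩ := pExact_of_injective I.obj p n (σ φ') h0
    refine ⟨σ.symm y, (σ (o := pwr p (n + 1)) (G := I)).injective ?_⟩
    refine (σ_d p (σ.symm y : (EtMV.P X).obj (pwr p n) ⟶ I)).trans ?_
    rw [Equiv.apply_symm_apply]
    exact hy

theorem epi_d_zero (hp : Function.Surjective p.left) : Epi (d p 0) := by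
  constructor
  intro G a b hab
  apply (σ (o := W) (G := G)).injective
  have h2 : G.obj.map (pproj p 0 0 ≫ p).op (σ (o := W) (G := G) a) =
      G.obj.map (pproj p 0 0 ≫ p).op (σ (o := W) (G := G) b) := by
    rw [← σ_map, ← σ_map]; exact congrArg σ hab
  refine sep_of_surjective p G hp _ _ ?_
  have h3 := congrArg (G.obj.map (EpsLan.pone p).op) h2
  rw [← ConcreteCategory.comp_apply, ← ConcreteCategory.comp_apply, ← Functor.map_comp, ← op_comp,
    ← Category.assoc, EpsLan.pone_proj, Category.id_comp] at h3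
  exact h3

/-- the syzygy -/
abbrev syz (n : ℕ) : EtCoh.Ab X := kernel (d p n)

/-- the map onto a syzygy -/
abbrev toSyz (n : ℕ) : (EtMV.P X).obj (T p (n + 2)) ⟶ syz p n := kernel.lift (d p n) (d p (n + 1)) (d_d p n)

theorem syz_cond (n : ℕ) : kernel.ι (d p (n + 1)) ≫ toSyz p n = 0 := by
  rw [← cancel_mono (kernel.ι (d p n)), Category.assoc, kernel.lift_ι, kernel.condition, zero_comp]

theorem syz_shortExact (hp : Function.Surjective p.left) (n : ℕ) :
    (ShortComplex.mk (kernel.ι (d p (n + 1))) (toSyz p n) (syz_cond p n)).ShortExact :=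
  haveI : Epi (toSyz p n) := (exact_d p hp n).epi_kernelLift
  { exact := ShortComplex.exact_of_f_is_kernel _
      (KernelFork.IsLimit.ofι' _ _ fun g hg => ⟨kernel.lift (d p (n + 1)) g (by
        rw [← kernel.lift_ι (d p n) (d p (n + 1)) (d_d p n), ← Category.assoc, hg, zero_comp]),
        kernel.lift_ι _ _ _⟩) }

end Cech

/-- the sum decomposition of a disjoint union -/
theorem exists_decomp {ι : Type} [Fintype ι] (Y : ι → X.Etale) :
    ∃ pr : ∀ t, (EtMV.P X).obj (sigmaObj Y) ⟶ (EtMV.P X).obj (Y t),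
      ∑ t, pr t ≫ (EtMV.P X).map (sigmaInj Y t) = 𝟙 _ := by
  classical
  choose v hv using fun t => exists_glue ((EtMV.P X).obj (Y t)) Y
    (fun k => if h : t = k then h ▸ uel (Y t) else 0)
  refine ⟨fun t => σ.symm (v t), σ.injective ?_⟩
  rw [σ_sum, ← sub_eq_zero]
  refine EtSect.eq_zero_of_cover _ _ fun x => ?_
  obtain ⟨k, y, hy⟩ := exists_sigmaInj Y x
  refine ⟨Y k, sigmaInj Y k, ⟨y, hy⟩, ?_⟩
  rw [map_sub, map_sum, sub_eq_zero, Finset.sum_eq_single k (fun t _ htk => ?_) (fun h => absurd (Finset.mem_univ k) h)]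
  · rw [σ_comp, Equiv.apply_symm_apply, ← NatTrans.naturality_apply, hv k k, dif_pos rfl, ← σ_eq]
    conv_lhs => rw [← Category.comp_id ((EtMV.P X).map _), σ_map]
  · rw [σ_comp, Equiv.apply_symm_apply, ← NatTrans.naturality_apply, hv t k, dif_neg htk, map_zero]

theorem ext_eq_zero_of_components {ι : Type} [Fintype ι] (Y : ι → X.Etale) {G : EtCoh.Ab X} {n : ℕ}
    (x : Ext ((EtMV.P X).obj (sigmaObj Y)) G n)
    (h : ∀ t, (Ext.mk₀ ((EtMV.P X).map (sigmaInj Y t))).comp x (zero_add n) = 0) : x = 0 := by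
  obtain ⟨pr, hpr⟩ := exists_decomp Y
  rw [← Ext.mk₀_id_comp x, ← hpr, Ext.mk₀_sum, Ext.sum_comp]
  exact Finset.sum_eq_zero fun t _ => by rw [← Ext.mk₀_comp_mk₀_assoc, h t, Ext.comp_zero]

/-- a covering sieve is refined by one surjection from a finite union of affines -/
theorem exists_refine_fin {W : X.Etale} (hW : Qcqs W) (R : Sieve W) (hR : R ∈ X.smallEtaleTopology W) :
    ∃ (N : ℕ) (Y : Fin N → X.Etale) (y : ∀ k, Y k ⟶ W) (q : sigmaObj Y ⟶ W),
      (∀ k, R (y k)) ∧ (∀ k, sigmaInj Y k ≫ q = y k) ∧ IsAffine (sigmaObj Y).left ∧ Function.Surjective q.left := by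
  classical
  haveI := hW.1
  have hloc : ∀ x : W.left, ∃ (T : X.Etale) (g : T ⟶ W), IsAffine T.left ∧ R g ∧ x ∈ Set.range g.left := by
    intro x
    obtain ⟨T, g, hg, t, ht⟩ := exists_of_mem hR x
    obtain ⟨_, ⟨O, hO, rfl⟩, htO, -⟩ := T.left.isBasis_affineOpens.exists_subset_of_mem_open
      (Set.mem_univ t) isOpen_univ
    have := T.prop
    let T' : X.Etale := Scheme.Etale.mk (Scheme.Opens.ι O ≫ T.hom)
    let i : T' ⟶ T := MorphismProperty.Over.homMk (Scheme.Opens.ι O) rfl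
    refine ⟨T', i ≫ g, hO, R.downward_closed hg i, (⟨t, htO⟩ : O), ?_⟩
    exact ht
  choose T g hT hg hx using hloc
  obtain ⟨F, hF⟩ := isCompact_univ.elim_finite_subcover (fun x => Set.range (g x).left)
    (fun x => by haveI := EtSect.etale_left (g x); exact (g x).left.isOpenMap.isOpen_range)
    (fun x _ => Set.mem_iUnion.mpr ⟨x, hx x⟩)
  let Y : Fin F.card → X.Etale := fun k => T (F.equivFin.symm k).1
  haveI : ∀ k, IsAffine (Y k).left := fun k => hT _
  haveI : IsAffine (sigmaObj Y).left := inferInstanceAs (IsAffine (∐ fun k => (Y k).left))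
  let q : sigmaObj Y ⟶ W := MorphismProperty.Over.homMk (Sigma.desc fun k => (g (F.equivFin.symm k).1).left) (by
    refine Sigma.hom_ext _ _ fun k => ?_
    rw [← Category.assoc, Sigma.ι_desc]
    refine (MorphismProperty.Over.w (g (F.equivFin.symm k).1)).trans ?_
    exact (Sigma.ι_desc (fun k => (Y k).hom) k).symm)
  have hq : ∀ k, sigmaInj Y k ≫ q = g (F.equivFin.symm k).1 := fun k =>
    MorphismProperty.Over.Hom.ext (Sigma.ι_desc _ k)
  refine ⟨F.card, Y, fun k => g _, q, fun k => hg _, hq, inferInstance, fun v => ?_⟩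
  obtain ⟨x, hxF, w, hw⟩ := Set.mem_iUnion₂.1 (hF (Set.mem_univ v))
  have h := hq (F.equivFin ⟨x, hxF⟩)
  have key : ∀ z : F, z = ⟨x, hxF⟩ → v ∈ Set.range (g z.1).left := by
    rintro _ rfl; exact ⟨w, hw⟩
  obtain ⟨w', hw'⟩ := key _ (Equiv.symm_apply_apply F.equivFin ⟨x, hxF⟩)
  refine ⟨(sigmaInj Y (F.equivFin ⟨x, hxF⟩)).left w', ?_⟩
  rw [← EtFLC.comp_left_apply, h]
  exact hw'

theorem exists_kill_cover {W : X.Etale} (hW : Qcqs W) {G : EtCoh.Ab X} (n : ℕ)
    (x : Ext ((EtMV.P X).obj W) G (n + 1)) :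
    ∃ (Z : X.Etale) (p : Z ⟶ W), Qcqs Z ∧ Function.Surjective p.left ∧
      (Ext.mk₀ ((EtMV.P X).map p)).comp x (zero_add (n + 1)) = 0 := by
  let R : Sieve W :=
    { arrows := fun V h => (Ext.mk₀ ((EtMV.P X).map h)).comp x (zero_add (n + 1)) = 0
      downward_closed := fun {V V'} h hh g => by
        show (Ext.mk₀ ((EtMV.P X).map (g ≫ h))).comp x (zero_add (n + 1)) = 0
        rw [Functor.map_comp, ← Ext.mk₀_comp_mk₀_assoc, hh, Ext.comp_zero] }
  obtain ⟨N, Y, y, q, hy, hq, hA, hs⟩ := exists_refine_fin hW R ((EtFLC.mem_iff R).2 fun w => by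
    obtain ⟨o, h, v, hv, hk⟩ := EtMV.exists_kill n W G x w
    exact ⟨o, h, v, hk, hv⟩)
  haveI := hA
  refine ⟨sigmaObj Y, q, qcqs_of_isAffine _, hs, ext_eq_zero_of_components Y _ fun t => ?_⟩
  rw [Ext.mk₀_comp_mk₀_assoc, ← Functor.map_comp, hq]
  exact hy t

end Groth.Agent.EtLimit
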