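import Groth.Agent.EtLimit.Resolution
import Groth.Agent.EtLimit.Free
import Groth.Agent.EtLimit.Descend
import Groth.Agent.EtPullExact.Basic
import Mathlib

/-! The system of etale sites of a cofiltered limit of schemes. -/

universe u

open CategoryTheory CategoryTheory.Limits CategoryTheory.Abelian AlgebraicGeometry Opposite

set_option backward.isDefEq.respectTransparency false
set_option backward.isDefEq.respectTransparency.types false

noncomputable section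

namespace Groth.Agent.EtLimit

set_option linter.auxLemma false
attribute [local instance 100000] EtCoh.H._proof_1 Groth.Agent.EtMV.hext
attribute [local instance 200000] Groth.Agent.EtMV.hextAb

open EtColimH

variable {I : Type u} [SmallCategory I] (D : I ⥤ Scheme.{u}) (c : Cone D)

/-- the projections of a cone, with source syntactically the vertex -/
abbrev uπ {D : I ⥤ Scheme.{u}} (c : Cone D) (j : I) : c.pt ⟶ D.obj j := c.π.app j

theorem uπ_w {D : I ⥤ Scheme.{u}} (c : Cone D) {k j : I} (a : k ⟶ j) : uπ c k ≫ D.map a = uπ c j := c.w a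

/-- a compatible system of sheaves on the stages with a cocone on the limit -/
structure Datum where
  /-- the sheaves -/
  F : ∀ i, EtCoh.Ab (D.obj i)
  /-- transition maps -/
  ψ : ∀ {k j : I} (a : k ⟶ j), (EtCoh.pull (D.map a)).obj (F j) ⟶ F k
  /-- the sheaf on the limit -/
  M : EtCoh.Ab c.pt
  /-- the cocone -/
  ν : ∀ j, (EtCoh.pull (uπ c j)).obj (F j) ⟶ M
  compat : ∀ {k j : I} (a : k ⟶ j), (EtCoh.pull (uπ c k)).map (ψ a) ≫ ν k =
    ψh (uπ c k) (D.map a) (uπ c j) (uπ_w c a) (F j) ≫ ν j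

variable {D c}
variable [∀ {i j : I} (f : i ⟶ j), IsAffineHom (D.map f)] [∀ i, CompactSpace (D.obj i)]
  [∀ i, QuasiSeparatedSpace (D.obj i)]

omit [∀ i, CompactSpace (D.obj i)] [∀ i, QuasiSeparatedSpace (D.obj i)] in
theorem gen_pull {k j : I} (a : k ⟶ j) {A : EtCoh.Ab (D.obj j)} (hA : Gen A) :
    Gen ((EtCoh.pull (D.map a)).obj A) := by
  obtain ⟨o, ho, ⟨e⟩⟩ := hA
  haveI := isIso_π_fstE (D.map a) o pullback.condition
  exact ⟨_, qcqs_bc_of_qcqs _ ho, ⟨(EtCoh.pull (D.map a)).mapIso e ≪≫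
    (asIso (π (D.map a) o ((EtCoh.bc (D.map a)).obj o) (fstE (D.map a) o) pullback.condition)).symm⟩⟩

/-- the abstract system -/
abbrev Datum.sys (S : Datum D c) : Sys (fun i => EtCoh.Ab (D.obj i)) (EtCoh.Ab c.pt) where
  R k j := k ⟶ j
  L a := EtCoh.pull (D.map a)
  L_add _ := inferInstance
  L_lim _ := EtPullExact.pull_preservesFiniteLimits _
  L_colim _ := inferInstance
  U j := EtCoh.pull (uπ c j)
  U_add _ := inferInstance
  U_lim _ := EtPullExact.pull_preservesFiniteLimits _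
  U_colim _ := inferInstance
  iso {k j} a := EtMV.ψ (uπ c k) (D.map a) (uπ c j) (uπ_w c a)
  F := S.F
  ψ := S.ψ
  M := S.M
  ν := S.ν
  compat := S.compat
  G _ A := Gen A
  G_map a _ h := gen_pull a h

variable (S : Datum D c)

theorem res_syz {j : I} {Z W : (D.obj j).Etale} (p : Z ⟶ W) (hp : Function.Surjective p.left) (hZ : Qcqs Z)
    (hW : Qcqs W) : ∀ (r n : ℕ), S.sys.Res j r (syz p n)
  | 0, n => ⟨_, toSyz p n, ⟨_, qcqs_pwr p hZ hW (n + 1), ⟨Iso.refl _⟩⟩, (syz_shortExact p hp n).epi_g⟩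
  | r + 1, n => ⟨_, _, _, _, syz_cond p n, syz_shortExact p hp n, ⟨_, qcqs_pwr p hZ hW (n + 1), ⟨Iso.refl _⟩⟩,
    res_syz p hp hZ hW r (n + 1)⟩

omit [∀ {i j : I} (f : i ⟶ j), IsAffineHom (D.map f)] [∀ i, CompactSpace (D.obj i)]
  [∀ i, QuasiSeparatedSpace (D.obj i)] in
theorem aug_cond {j : I} {Z W : (D.obj j).Etale} (p : Z ⟶ W) {A : EtCoh.Ab (D.obj j)}
    (e : (EtMV.P (D.obj j)).obj W ⟶ A) : kernel.ι (d p 0) ≫ d p 0 ≫ e = 0 :=
  (kernel.condition_assoc (d p 0) e).trans zero_comp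

omit [∀ {i j : I} (f : i ⟶ j), IsAffineHom (D.map f)] [∀ i, CompactSpace (D.obj i)]
  [∀ i, QuasiSeparatedSpace (D.obj i)] in
theorem aug_shortExact {j : I} {Z W : (D.obj j).Etale} (p : Z ⟶ W) (hp : Function.Surjective p.left)
    {A : EtCoh.Ab (D.obj j)} (e : (EtMV.P (D.obj j)).obj W ⟶ A) [IsIso e] :
    (ShortComplex.mk (kernel.ι (d p 0)) (d p 0 ≫ e) (aug_cond p e)).ShortExact :=
  haveI := epi_d_zero p hp
  { exact := ShortComplex.exact_of_f_is_kernel _ (KernelFork.IsLimit.ofι' _ _ fun g hg =>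
      ⟨kernel.lift (d p 0) g (by rw [← cancel_mono e, zero_comp, Category.assoc]; exact hg), kernel.lift_ι _ _ _⟩)
    epi_g := inferInstanceAs (Epi (d p 0 ≫ e)) }

theorem datum_kill (j : I) (A : EtCoh.Ab (D.obj j)) (hA : Gen A) (n : ℕ) (x : Ext A (S.F j) (n + 1)) :
    ∃ (K Z' : EtCoh.Ab (D.obj j)) (f : K ⟶ Z') (g : Z' ⟶ A) (h : f ≫ g = 0),
      (ShortComplex.mk f g h).ShortExact ∧ Gen Z' ∧ (∀ r, S.sys.Res j r K) ∧
        (Ext.mk₀ g).comp x (zero_add (n + 1)) = 0 := by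
  obtain ⟨W, hW, ⟨e⟩⟩ := hA
  obtain ⟨Z, p, hZ, hp, hx⟩ := exists_kill_cover hW n ((Ext.mk₀ e.inv).comp x (zero_add (n + 1)))
  refine ⟨_, _, _, d p 0 ≫ e.inv, aug_cond p e.inv, aug_shortExact p hp e.inv, ⟨_, qcqs_pwr p hZ hW 0, ⟨Iso.refl _⟩⟩,
    fun r => res_syz S p hp hZ hW r 0, ?_⟩
  rw [← Ext.mk₀_comp_mk₀_assoc, show d p 0 = (EtMV.P _).map (EpsLan.pproj p 0 0) ≫ (EtMV.P _).map p from
    (EtMV.P (D.obj j)).map_comp _ _, ← Ext.mk₀_comp_mk₀_assoc]
  exact (congrArg (fun t => (Ext.mk₀ ((EtMV.P _).map (EpsLan.pproj p 0 0))).comp t (zero_add (n + 1))) hx).trans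
    (Ext.comp_zero _ _ _ _ _)

variable [IsCofiltered I] (hc : IsLimit c)

include hc in
theorem datum_killLim (j : I) (A : EtCoh.Ab (D.obj j)) (hA : Gen A) (n : ℕ)
    (ζ : Ext ((EtCoh.pull (uπ c j)).obj A) S.M (n + 1)) :
    ∃ (k : I) (a : k ⟶ j) (K Z' : EtCoh.Ab (D.obj k)) (f : K ⟶ Z') (g : Z' ⟶ (EtCoh.pull (D.map a)).obj A)
      (h : f ≫ g = 0), (ShortComplex.mk f g h).ShortExact ∧ Gen Z' ∧ (∀ r, S.sys.Res k r K) ∧
      (Ext.mk₀ ((EtCoh.pull (uπ c k)).map g)).comp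
        ((Ext.mk₀ ((EtMV.ψ (uπ c k) (D.map a) (uπ c j) (uπ_w c a)).hom.app A)).comp ζ (zero_add (n + 1)))
        (zero_add (n + 1)) = 0 := by
  obtain ⟨W, hW, ⟨e⟩⟩ := hA
  let ej := π (uπ c j) W ((EtCoh.bc (uπ c j)).obj W) (fstE (uπ c j) W) pullback.condition
  let ζ₁ : Ext ((EtMV.P c.pt).obj ((EtCoh.bc (uπ c j)).obj W)) S.M (n + 1) :=
    (Ext.mk₀ (ej ≫ (EtCoh.pull (uπ c j)).map e.inv)).comp ζ (zero_add (n + 1))
  let R : Sieve ((EtCoh.bc (uπ c j)).obj W) :=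
    { arrows := fun V h => (Ext.mk₀ ((EtMV.P c.pt).map h)).comp ζ₁ (zero_add (n + 1)) = 0
      downward_closed := fun {V V'} h hh g => by
        show (Ext.mk₀ ((EtMV.P c.pt).map (g ≫ h))).comp ζ₁ (zero_add (n + 1)) = 0
        rw [Functor.map_comp, ← Ext.mk₀_comp_mk₀_assoc, hh, Ext.comp_zero] }
  obtain ⟨k, a, ι, hι, Y, q, hY, hG, hcov⟩ := exists_refine_stage D c hc W R hW ((EtFLC.mem_iff R).2 fun w => by
    obtain ⟨o, h, v, hv, hk⟩ := EtMV.exists_kill n _ S.M ζ₁ w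
    exact ⟨o, h, v, hk, hv⟩)
  let Wk := (EtCoh.bc (D.map a)).obj W
  let ea : (EtMV.P (D.obj k)).obj Wk ⟶ (EtCoh.pull (D.map a)).obj A :=
    π (D.map a) W Wk (fstE (D.map a) W) pullback.condition ≫ (EtCoh.pull (D.map a)).map e.inv
  haveI := isIso_π_fstE (D.map a) W pullback.condition
  haveI : IsIso ea := inferInstance
  have hWk : Qcqs Wk := qcqs_bc_of_qcqs _ hW
  let iso := EtMV.ψ (uπ c k) (D.map a) (uπ c j) (uπ_w c a)
  have hkill : ∀ t, (Ext.mk₀ ((EtCoh.pull (uπ c k)).map ((EtMV.P _).map (q t) ≫ ea))).comp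
      ((Ext.mk₀ (iso.hom.app A)).comp ζ (zero_add (n + 1))) (zero_add (n + 1)) = 0 := by
    intro t
    let T := (EtCoh.bc (uπ c k)).obj (Y t)
    let ek := π (uπ c k) (Y t) T (fstE (uπ c k) (Y t)) pullback.condition
    haveI : IsIso ek := isIso_π_fstE _ _ _
    let m := (q t).left ≫ fstE (D.map a) W
    have w₁ : m ≫ W.hom = (Y t).hom ≫ D.map a := by
      rw [Category.assoc, pullback.condition, ← Category.assoc, left_snd]
    have w₃ : (fstE (uπ c k) (Y t) ≫ m) ≫ W.hom = T.hom ≫ uπ c j := by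
      rw [Category.assoc, w₁, ← Category.assoc, pullback.condition, Category.assoc, uπ_w]
      rfl
    let h : T ⟶ (EtCoh.bc (uπ c j)).obj W := hm (uπ c j) W T _ w₃
    have hR := hG t h (hm_fst _ _ _ _ _)
    have w4 : (h.left ≫ fstE (uπ c j) W) ≫ W.hom = T.hom ≫ uπ c j := by rw [hm_fst]; exact w₃
    have e1 : (EtMV.P _).map (q t) ≫ ea = π (D.map a) W (Y t) m w₁ ≫ (EtCoh.pull (D.map a)).map e.inv :=
      (Category.assoc _ _ _).symm.trans
        (congrArg (fun z => z ≫ (EtCoh.pull (D.map a)).map e.inv)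
          (π_pre (D.map a) W (q t) (fstE (D.map a) W) pullback.condition w₁))
    have e2 : π (uπ c j) W T (fstE (uπ c k) (Y t) ≫ m) w₃ = (EtMV.P c.pt).map h ≫ ej := by
      refine Eq.trans ?_ (π_pre (uπ c j) W h (fstE (uπ c j) W) pullback.condition w4).symm
      congr 1
      exact (hm_fst (uπ c j) W T (fstE (uπ c k) (Y t) ≫ m) w₃).symm
    have e3 := π_comp_map (uπ c k) (D.map a) (uπ c j) (uπ_w c a) W (Y t) T m w₁
        (fstE (uπ c k) (Y t)) pullback.condition w₃ e.inv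
    have key : ek ≫ (EtCoh.pull (uπ c k)).map ((EtMV.P _).map (q t) ≫ ea) ≫ iso.hom.app A =
        (EtMV.P c.pt).map h ≫ ej ≫ (EtCoh.pull (uπ c j)).map e.inv := by
      rw [e1, ← Category.assoc ((EtMV.P c.pt).map h), ← e2]
      exact e3
    have h0 : (Ext.mk₀ ek).comp ((Ext.mk₀ ((EtCoh.pull (uπ c k)).map ((EtMV.P _).map (q t) ≫ ea))).comp
        ((Ext.mk₀ (iso.hom.app A)).comp ζ (zero_add (n + 1))) (zero_add (n + 1))) (zero_add (n + 1)) = 0 := by
      rw [Ext.mk₀_comp_mk₀_assoc, Ext.mk₀_comp_mk₀_assoc, Category.assoc, key, ← Ext.mk₀_comp_mk₀_assoc]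
      exact hR
    have h1 := congrArg (fun z => (Ext.mk₀ (inv ek)).comp z (zero_add (n + 1))) h0
    rw [Ext.comp_zero, Ext.mk₀_comp_mk₀_assoc, IsIso.inv_hom_id, Ext.mk₀_id_comp] at h1
    exact h1
  obtain ⟨N, Z, z, p, hz, hp, hA', hs⟩ := exists_refine_fin hWk (Sieve.ofArrows Y q) (by
    rw [Scheme.ofArrows_mem_smallEtaleTopology_iff]
    exact Set.eq_univ_of_forall fun w => Set.mem_iUnion.2 (hcov w))
  haveI := hA'
  have hZ : Qcqs (sigmaObj Z) := qcqs_of_isAffine _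
  refine ⟨k, a, _, _, _, d p 0 ≫ ea, aug_cond p ea, aug_shortExact p hs ea, ⟨_, qcqs_pwr p hZ hWk 0, ⟨Iso.refl _⟩⟩,
    fun r => res_syz S p hs hZ hWk r 0, ?_⟩
  obtain ⟨pr, hpr⟩ := exists_decomp Z
  have hd : d p 0 ≫ ea = (EtMV.P _).map (EpsLan.pproj p 0 0) ≫
      ∑ s, pr s ≫ ((EtMV.P _).map (z s) ≫ ea) := by
    have e2 : (∑ s, pr s ≫ ((EtMV.P _).map (z s) ≫ ea)) = (EtMV.P _).map p ≫ ea := by
      conv_rhs => rw [← Category.id_comp ((EtMV.P _).map p), ← hpr, Preadditive.sum_comp, Preadditive.sum_comp]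
      refine Finset.sum_congr rfl fun s _ => ?_
      rw [← hp s, Functor.map_comp]
      simp only [Category.assoc]
    rw [e2]
    exact (congrArg (fun z => z ≫ ea) ((EtMV.P (D.obj k)).map_comp (EpsLan.pproj p 0 0) p)).trans (Category.assoc _ _ _)
  rw [hd, Functor.map_comp, Functor.map_sum, ← Ext.mk₀_comp_mk₀_assoc, Ext.mk₀_sum, Ext.sum_comp]
  rw [Finset.sum_eq_zero fun s _ => ?_, Ext.comp_zero]
  obtain ⟨V, g, y, ⟨t⟩, hgy⟩ := hz s
  have e3 : (EtMV.P _).map (z s) ≫ ea = (EtMV.P _).map g ≫ (EtMV.P _).map (q t) ≫ ea := by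
    rw [← hgy, ← Category.assoc]
    exact congrArg (fun z => z ≫ ea) ((EtMV.P (D.obj k)).map_comp g (q t))
  rw [e3, Functor.map_comp, Functor.map_comp, ← Ext.mk₀_comp_mk₀_assoc, ← Ext.mk₀_comp_mk₀_assoc, hkill t,
    Ext.comp_zero, Ext.comp_zero]

include hc in
/-- `Ext` commutes with the limit as soon as homomorphisms from the generators do -/
theorem datum_hyp (h₀ : ∀ j (A : EtCoh.Ab (D.obj j)), Gen A → S.sys.Inj 0 j A ∧ S.sys.Surj 0 j A) : S.sys.Hyp where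
  inj₀ j A h := (h₀ j A h).1
  surj₀ j A h := (h₀ j A h).2
  kill := datum_kill S
  killLim := datum_killLim S hc

include hc in
theorem datum_main (h₀ : ∀ j (A : EtCoh.Ab (D.obj j)), Gen A → S.sys.Inj 0 j A ∧ S.sys.Surj 0 j A) (n : ℕ) (j : I)
    (A : EtCoh.Ab (D.obj j)) (hA : Gen A) : S.sys.Inj n j A ∧ S.sys.Surj n j A :=
  ((S.sys.main (datum_hyp S hc h₀) n).2.2 j A hA)

omit [∀ {i j : I} (f : i ⟶ j), IsAffineHom (D.map f)] [IsCofiltered I] in
theorem gen_const (j : I) : Gen (EtCoh.const (D.obj j) ℤ) :=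
  ⟨EtCoh.top _, ⟨inferInstanceAs (CompactSpace (D.obj j)), inferInstanceAs (QuasiSeparatedSpace (D.obj j))⟩,
    ⟨EtMV.θ _⟩⟩

end Groth.Agent.EtLimit
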