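import Groth.Agent.EtLimit.Sect
import Mathlib

/-! Degree zero: sections and maps out of free sheaves. -/

universe u

open CategoryTheory CategoryTheory.Limits CategoryTheory.Abelian AlgebraicGeometry Opposite

set_option backward.isDefEq.respectTransparency false
set_option backward.isDefEq.respectTransparency.types false

noncomputable section

namespace Groth.Agent.EtLimit

set_option linter.auxLemma false
attribute [local instance 100000] EtCoh.H._proof_1 Groth.Agent.EtMV.hext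
attribute [local instance 200000] Groth.Agent.EtMV.hextAb

open EtMV (r r_natural σ σ_comp σ_eq uel)

theorem σ_π_map {Y X : Scheme.{u}} (f : Y ⟶ X) (o : X.Etale) {A : EtCoh.Ab X} {H : EtCoh.Ab Y}
    (φ : (EtMV.P X).obj o ⟶ A) (χ : (EtCoh.pull f).obj A ⟶ H) (w) :
    σ (π f o ((EtCoh.bc f).obj o) (fstE f o) w ≫ (EtCoh.pull f).map φ ≫ χ) =
      χ.hom.app (op ((EtCoh.bc f).obj o)) (r f (𝟙 _) A (σ φ)) := by
  rw [← Category.assoc, σ_comp, σ_comp, σ_π, hm_fstE, r_natural, ← σ_eq]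

variable {I : Type u} [SmallCategory I] {D : I ⥤ Scheme.{u}} {c : Cone D}
  [∀ {i j : I} (f : i ⟶ j), IsAffineHom (D.map f)] [∀ i, CompactSpace (D.obj i)]
  [∀ i, QuasiSeparatedSpace (D.obj i)] {S : Datum D c}

omit [∀ i, CompactSpace (D.obj i)] [∀ i, QuasiSeparatedSpace (D.obj i)] in
theorem inj₀_of_sect (h : S.InjSect) (j : I) (A : EtCoh.Ab (D.obj j)) (hA : Gen A) : S.sys.Inj 0 j A := by
  obtain ⟨W, hW, ⟨e⟩⟩ := hA
  intro x hx
  obtain ⟨φ, rfl⟩ := (Ext.mk₀_bijective _ _).2 x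
  rw [Sys.V_apply, Ext.mapExactFunctor_mk₀, Ext.mk₀_comp_mk₀, Ext.mk₀_eq_zero_iff] at hx
  have hx' : (EtCoh.pull (uπ c j)).map φ ≫ S.ν j = 0 := hx
  have h1 : S.vs j (𝟙 _) (σ (e.inv ≫ φ)) = 0 := by
    rw [Datum.vs, ← σ_π_map (uπ c j) W (e.inv ≫ φ) (S.ν j) pullback.condition, Functor.map_comp, Category.assoc, hx',
      comp_zero, comp_zero]
    exact σ_zero
  obtain ⟨k, a, ha⟩ := h.eq j W hW _ h1
  refine .step a ?_
  haveI := isIso_π_fstE (D.map a) W pullback.condition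
  have h2 : (EtCoh.pull (D.map a)).map φ ≫ S.ψ a = 0 := by
    rw [← cancel_epi (π (D.map a) W ((EtCoh.bc (D.map a)).obj W) (fstE (D.map a) W) pullback.condition ≫
      (EtCoh.pull (D.map a)).map e.inv), comp_zero]
    refine σ.injective ?_
    rw [Category.assoc, ← Functor.map_comp_assoc, σ_π_map, σ_zero]
    exact ha
  suffices S.sys.tr a A 0 (Ext.mk₀ φ) = 0 by rw [this]; exact .zero
  rw [Sys.tr_apply, Ext.mapExactFunctor_mk₀, Ext.mk₀_comp_mk₀, Ext.mk₀_eq_zero_iff]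
  exact h2

omit [∀ {i j : I} (f : i ⟶ j), IsAffineHom (D.map f)] [∀ i, CompactSpace (D.obj i)]
  [∀ i, QuasiSeparatedSpace (D.obj i)] in
/-- the transported functional on the base change of a generator -/
theorem σ_step {k j : I} (a : k ⟶ j) {W : (D.obj j).Etale} {A : EtCoh.Ab (D.obj j)} (e : (EtMV.P _).obj W ⟶ A)
    {M : EtCoh.Ab c.pt} (χ : (EtCoh.pull (uπ c j)).obj A ⟶ M)
    (h : (EtCoh.bc (uπ c k)).obj ((EtCoh.bc (D.map a)).obj W) ⟶ (EtCoh.bc (uπ c j)).obj W)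
    (hh : h.left ≫ fstE (uπ c j) W = fstE (uπ c k) _ ≫ fstE (D.map a) W) :
    σ (π (uπ c k) ((EtCoh.bc (D.map a)).obj W) _ (fstE (uπ c k) _) pullback.condition ≫ (EtCoh.pull (uπ c k)).map
        (π (D.map a) W ((EtCoh.bc (D.map a)).obj W) (fstE (D.map a) W) pullback.condition ≫ (EtCoh.pull (D.map a)).map e) ≫
          (EtMV.ψ (uπ c k) (D.map a) (uπ c j) (uπ_w c a)).hom.app A ≫ χ) =
      M.obj.map h.op (σ (π (uπ c j) W _ (fstE (uπ c j) W) pullback.condition ≫ (EtCoh.pull (uπ c j)).map e ≫ χ)) := by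
  have w₃ : (fstE (uπ c k) ((EtCoh.bc (D.map a)).obj W) ≫ fstE (D.map a) W) ≫ W.hom =
      ((EtCoh.bc (uπ c k)).obj ((EtCoh.bc (D.map a)).obj W)).hom ≫ uπ c j := by
    rw [← hh, Category.assoc, pullback.condition, ← Category.assoc, left_snd]
  have e3 := π_comp_map (uπ c k) (D.map a) (uπ c j) (uπ_w c a) W ((EtCoh.bc (D.map a)).obj W) _
    (fstE (D.map a) W) pullback.condition (fstE (uπ c k) _) pullback.condition w₃ e
  have e2 : π (uπ c j) W _ (fstE (uπ c k) _ ≫ fstE (D.map a) W) w₃ =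
      (EtMV.P c.pt).map h ≫ π (uπ c j) W _ (fstE (uπ c j) W) pullback.condition := by
    refine Eq.trans ?_ (π_pre (uπ c j) W h (fstE (uπ c j) W) pullback.condition (by rw [hh]; exact w₃)).symm
    congr 1
    exact hh.symm
  rw [← EtMV.σ_map]
  refine congrArg σ ?_
  rw [reassoc_of% e3, e2, Category.assoc]

omit [∀ i, CompactSpace (D.obj i)] [∀ i, QuasiSeparatedSpace (D.obj i)] in
theorem lifts_of_sect {j : I} {A : EtCoh.Ab (D.obj j)} {W : (D.obj j).Etale} (e : (EtMV.P _).obj W ⟶ A) [IsIso e]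
    (χ : (EtCoh.pull (uπ c j)).obj A ⟶ S.M) (t : EtCoh.sect (S.F j) W)
    (h : S.vs j (𝟙 _) t = σ (π (uπ c j) W _ (fstE (uπ c j) W) pullback.condition ≫ (EtCoh.pull (uπ c j)).map e ≫ χ)) :
    S.sys.Lifts 0 A (Ext.mk₀ χ) := by
  haveI := isIso_π_fstE (uπ c j) W pullback.condition
  have h1 : (EtCoh.pull (uπ c j)).map (inv e ≫ σ.symm t) ≫ S.ν j = χ := by
    rw [← cancel_epi (π (uπ c j) W ((EtCoh.bc (uπ c j)).obj W) (fstE (uπ c j) W) pullback.condition ≫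
      (EtCoh.pull (uπ c j)).map e)]
    refine σ.injective ?_
    rw [Category.assoc, Category.assoc, ← Functor.map_comp_assoc, IsIso.hom_inv_id_assoc, σ_π_map,
      Equiv.apply_symm_apply, ← h, Datum.vs]
  have := Sys.Lifts.here (s := S.sys) (n := 0) (j := j) (A := A) (Ext.mk₀ (inv e ≫ σ.symm t))
  rw [Sys.V_apply, Ext.mapExactFunctor_mk₀, Ext.mk₀_comp_mk₀] at this
  rw [← h1]
  exact this

omit [∀ i, CompactSpace (D.obj i)] [∀ i, QuasiSeparatedSpace (D.obj i)] in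
theorem surj₀_of_sect (hs : S.SurjSect) (j : I) (A : EtCoh.Ab (D.obj j)) (hA : Gen A) : S.sys.Surj 0 j A := by
  obtain ⟨W, hW, ⟨e⟩⟩ := hA
  intro ζ
  obtain ⟨χ, rfl⟩ := (Ext.mk₀_bijective _ _).2 ζ
  obtain ⟨k, a, l, b, t, ht⟩ := hs.eq j W hW
    (σ (π (uπ c j) W _ (fstE (uπ c j) W) pullback.condition ≫ (EtCoh.pull (uπ c j)).map e.inv ≫ χ))
  let W₁ := (EtCoh.bc (D.map a)).obj W
  let e₁ : (EtMV.P _).obj W₁ ⟶ (EtCoh.pull (D.map a)).obj A :=
    π (D.map a) W W₁ (fstE (D.map a) W) pullback.condition ≫ (EtCoh.pull (D.map a)).map e.inv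
  haveI := isIso_π_fstE (D.map a) W pullback.condition
  haveI : IsIso e₁ := inferInstance
  let e₂ : (EtMV.P _).obj ((EtCoh.bc (D.map b)).obj W₁) ⟶ (EtCoh.pull (D.map b)).obj ((EtCoh.pull (D.map a)).obj A) :=
    π (D.map b) W₁ _ (fstE (D.map b) W₁) pullback.condition ≫ (EtCoh.pull (D.map b)).map e₁
  haveI := isIso_π_fstE (D.map b) W₁ pullback.condition
  haveI : IsIso e₂ := inferInstance
  have w₁ := w_comp (uπ c k) (fstE (D.map a) W) (D.map a) pullback.condition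
  let h₁ : (EtCoh.bc (uπ c k)).obj W₁ ⟶ (EtCoh.bc (uπ c j)).obj W :=
    hm _ _ _ _ (w₁.trans (congrArg _ (uπ_w c a)))
  have w₂ := w_comp (uπ c l) (fstE (D.map b) W₁) (D.map b) pullback.condition
  let h₂ : (EtCoh.bc (uπ c l)).obj ((EtCoh.bc (D.map b)).obj W₁) ⟶ (EtCoh.bc (uπ c k)).obj W₁ :=
    hm _ _ _ _ (w₂.trans (congrArg _ (uπ_w c b)))
  refine .step a ?_
  rw [Ext.mk₀_comp_mk₀]
  refine .step b ?_
  rw [Ext.mk₀_comp_mk₀]
  refine lifts_of_sect e₂ _ t ?_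
  have hh₂ : h₂.left ≫ fstE (uπ c k) W₁ = fstE (uπ c l) _ ≫ fstE (D.map b) W₁ := hm_fst _ _ _ _ _
  have hh₁ : h₁.left ≫ fstE (uπ c j) W = fstE (uπ c k) W₁ ≫ fstE (D.map a) W := hm_fst _ _ _ _ _
  refine Eq.trans ?_ ((σ_step b e₁ _ h₂ hh₂).trans (congrArg _ (σ_step a e.inv χ h₁ hh₁))).symm
  rw [← ConcreteCategory.comp_apply, ← Functor.map_comp, ← op_comp]
  refine (ht (h₂ ≫ h₁) ?_).symm
  rw [MorphismProperty.Comma.comp_left, Category.assoc, hh₁, reassoc_of% hh₂]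

end Groth.Agent.EtLimit
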